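import Cfsg.Agent.Lib.Pal.Num
import Cfsg.Agent.Lib.HH.Spec
import Cfsg.Agent.Lib.Coprime.LiftIrr
import Cfsg.Agent.Lib.Coprime.Generation
import Cfsg.Agent.Lib.CharDeg.DerivedP

/-! Coprime action lemmas in the language of actions on an abelian group. -/

set_option autoImplicit false

namespace Cfsg.Lib.Pal

open Subgroup MulAction SemidirectProduct Cfsg.Lib.Char Cfsg.Lib.Coprime
open scoped commutatorElement

section Chr

variable {S : Type*} [Group S] [Finite S] {ψ : S → ℂ}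

theorem ne_zero_of_comm (hψ : IsIrrCharacter S ψ) {x : S} (h : ∀ y, ψ ⁅x, y⁆ = ψ 1) : ψ x ≠ 0 := by
  have := hψ.isCharacter.charKer_normal
  obtain ⟨χ, hχ, e⟩ := hψ.exists_deflate (charKer ψ) fun x hx => hψ.isCharacter.mem_charKer_iff.1 hx
  have h1 : (x : S ⧸ charKer ψ) ∈ center _ := mem_center_iff.2 fun g => by
    obtain ⟨y, rfl⟩ := QuotientGroup.mk_surjective g
    have := (QuotientGroup.eq_one_iff _).2 (hψ.isCharacter.mem_charKer_iff.2 (h y))
    exact (commutatorElement_eq_one_iff_mul_comm.1 this).symm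
  have h2 := hχ.isCharacter.mem_charCenter_iff.1 (hχ.center_le_charCenter h1)
  rw [← e]
  intro h0
  rw [h0, norm_zero, eq_comm, norm_eq_zero] at h2
  exact hχ.apply_one_ne_zero h2

theorem exists_sq (hψ : IsIrrCharacter S ψ) (h : ∀ x y : S, ⁅x, y⁆ ∈ center S) :
    ∃ D : Subgroup S, charDegree ψ ^ 2 = D.index ∧ ∀ x, x ∈ D ↔ ∀ y, ψ ⁅x, y⁆ = ψ 1 := by
  have := hψ.isCharacter.charKer_normal
  obtain ⟨χ, hχ, e⟩ := hψ.exists_deflate (charKer ψ) fun x hx => hψ.isCharacter.mem_charKer_iff.1 hx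
  have h1 : ∀ x : S, (x : S ⧸ charKer ψ) ∈ center _ ↔ ∀ y, ψ ⁅x, y⁆ = ψ 1 := fun x => by
    rw [mem_center_iff]
    refine ⟨fun h y => hψ.isCharacter.mem_charKer_iff.1 ((QuotientGroup.eq_one_iff _).1
      (commutatorElement_eq_one_iff_mul_comm.2 (h y).symm)), fun h g => ?_⟩
    obtain ⟨y, rfl⟩ := QuotientGroup.mk_surjective g
    have := (QuotientGroup.eq_one_iff _).2 (hψ.isCharacter.mem_charKer_iff.2 (h y))
    exact (commutatorElement_eq_one_iff_mul_comm.1 this).symm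
  refine ⟨(center _).comap (QuotientGroup.mk' (charKer ψ)), ?_, h1⟩
  rw [index_comap_of_surjective _ (QuotientGroup.mk'_surjective _),
    ← CharDeg.charDegree_sq_eq_index_center_of_vanish hχ fun x hx => ?_]
  · unfold charDegree; rw [← e]; rfl
  · obtain ⟨x, rfl⟩ := QuotientGroup.mk_surjective x
    rw [h1] at hx
    push Not at hx
    obtain ⟨y, hy⟩ := hx
    rw [e]
    refine CharDeg.vanish_of_commutator_central hψ (h y x) fun e' => hy ?_
    rw [← commutatorElement_inv]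
    exact hψ.isCharacter.mem_charKer_iff.1 (inv_mem (hψ.isCharacter.mem_charKer_iff.2 e'))

end Chr

variable {H V : Type*} [Group H] [CommGroup V] [MulDistribMulAction H V]

variable (H V) in
/-- The semidirect product of an action. -/
abbrev SD := V ⋊[MulDistribMulAction.toMulAut H V] H

instance sdFinite [Finite H] [Finite V] : Finite (SD H V) :=
  Finite.of_equiv _ SemidirectProduct.equivProd.symm

theorem sd_conj (g : H) (v : V) : (inr g : SD H V) * inl v * (inr g)⁻¹ = inl (g • v) := by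
  rw [← map_inv]; exact (inl_aut g v).symm

theorem sd_comm {g : H} {v : V} : (inr g : SD H V) * inl v = inl v * inr g ↔ g • v = v := by
  rw [← mul_inv_eq_iff_eq_mul, sd_conj, inl_inj]

theorem sd_norm (A : Subgroup H) :
    A.map (inr : H →* SD H V) ≤ normalizer ((⊤ : Subgroup V).map (inl : V →* SD H V) : Set _) := by
  have : ((⊤ : Subgroup V).map (inl : V →* SD H V)).Normal := by
    rw [← MonoidHom.range_eq_map, range_inl_eq_ker_rightHom]; infer_instance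
  exact le_normalizer_of_normal

theorem sd_fx (A : Subgroup H) : (⊤ : Subgroup V).map (inl : V →* SD H V) ⊓
    centralizer (A.map (inr : H →* SD H V) : Set _) = (fx V A).map inl := by
  ext x
  refine ⟨?_, ?_⟩
  · rintro ⟨⟨v, -, rfl⟩, h⟩
    exact ⟨v, fun a ha => sd_comm.1 (h _ ⟨a, ha, rfl⟩), rfl⟩
  · rintro ⟨v, h, rfl⟩
    refine ⟨⟨v, trivial, rfl⟩, ?_⟩
    rintro _ ⟨a, ha, rfl⟩
    exact sd_comm.2 (h a ha)

theorem sd_cop {A : Subgroup H} (h : (Nat.card A).Coprime (Nat.card V)) :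
    (Nat.card (A.map (inr : H →* SD H V))).Coprime
      (Nat.card ((⊤ : Subgroup V).map (inl : V →* SD H V))) := by
  rwa [card_map_of_injective inr_injective, card_map_of_injective inl_injective, card_top]

variable [Finite H] [Finite V]

theorem isCyclic_of_fpf [Nontrivial V] {A : Subgroup H} (hA : IsMulCommutative A)
    (hc : (Nat.card A).Coprime (Nat.card V)) (h : ∀ a ∈ A, ∀ v : V, a • v = v → a = 1 ∨ v = 1) :
    IsCyclic A := by
  by_contra hn
  obtain ⟨_, ⟨a, ha, rfl⟩, h1, h2⟩ := exists_inf_centralizer_ne_bot (A := A.map (inr : H →* SD H V))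
    inferInstance (fun e => hn ((equivMapOfInjective A _ inr_injective).isCyclic.2 e)) (sd_norm A)
    (sd_cop hc) (fun e => top_ne_bot ((map_eq_bot_iff_of_injective _ inl_injective).1 e))
  refine h2 ((eq_bot_iff_forall _).2 ?_)
  rintro _ ⟨⟨v, -, rfl⟩, h3⟩
  rcases h a ha v (sd_comm.1 (mem_centralizer_singleton_iff.1 h3).symm) with rfl | rfl
  · exact (h1 (map_one _)).elim
  · exact map_one _

theorem fix_of_frob {K R : Subgroup H} (hR : R ≤ normalizer (K : Set H))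
    (hf : ∀ h ∈ R, h ≠ 1 → K ⊓ centralizer {h} = ⊥) (hc : (Nat.card K).Coprime (Nat.card V))
    (hC : fx V R = ⊥) {k : H} (hk : k ∈ K) (v : V) : k • v = v := by
  have := le_centralizer_of_frobenius_abelian (K := K.map (inr : H →* SD H V)) (R := R.map inr)
    ((map_mono hR).trans (le_normalizer_map _)) ?_ (sd_norm K) (sd_norm R) (sd_cop hc) inferInstance
    (by rw [sd_fx, hC, Subgroup.map_bot])
  · exact sd_comm.1 (this ⟨k, hk, rfl⟩ _ ⟨v, trivial, rfl⟩).symm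
  · rintro _ ⟨h, hh, rfl⟩ h1
    refine (eq_bot_iff_forall _).2 ?_
    rintro _ ⟨⟨x, hx, rfl⟩, h2⟩
    have h3 := mem_centralizer_singleton_iff.1 h2
    rw [← map_mul, ← map_mul, inr_inj] at h3
    rw [(eq_bot_iff_forall _).1 (hf h hh fun e => h1 (by rw [e, map_one])) x
      ⟨hx, mem_centralizer_singleton_iff.2 h3⟩, map_one]

theorem eq_top_of_hyper {s : ℕ} [Fact s.Prime] {A : Subgroup H} (hA : IsElementaryAbelian s A)
    (hne : A ≠ ⊥) (hc : (Nat.card A).Coprime (Nat.card V)) {W : Subgroup V}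
    (h : ∀ B ≤ A, B.relIndex A = s → fx V B ≤ W) : W = ⊤ := by
  have hA' : IsElementaryAbelian s (A.map (inr : H →* SD H V)) := ⟨by have := hA.1; infer_instance, by
    rintro _ ⟨a, ha, rfl⟩; rw [← map_pow, hA.2 a ha, map_one]⟩
  have := le_of_forall_hyperplane' (H := W.map inl) hA'
    (fun e => hne ((map_eq_bot_iff_of_injective _ inr_injective).1 e)) (sd_norm A) (sd_cop hc) ?_
  · exact top_le_iff.1 ((map_le_map_iff_of_injective inl_injective).1 this)
  · intro B hB hi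
    obtain ⟨B, rfl⟩ : ∃ B' : Subgroup H, B'.map inr = B :=
      ⟨B.comap inr, map_comap_eq_self (hB.trans (map_le_range _ _))⟩
    rw [sd_fx]
    rw [relIndex_map_map_of_injective _ _ inr_injective] at hi
    exact map_mono (h B ((map_le_map_iff_of_injective inr_injective).1 hB) hi)

theorem exists_irr_le {t d : ℕ} [ht : Fact t.Prime] (hV : ∀ v : V, v ^ t = 1) (hd : Nat.card V = t ^ d)
    {S : Subgroup H} (hS : ¬ t ∣ Nat.card S) {b : S} {v : V} (hb : (b : H) • v ≠ v) :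
    ∃ ψ : S → ℂ, IsIrrCharacter S ψ ∧ ψ b ≠ ψ 1 ∧ charDegree ψ ≤ d := by
  classical
  obtain ⟨ψ, hψ, ⟨c, hc, h1⟩, h2⟩ := exists_irr_of_elemAb (ℓ := t) ((inr : H →* SD H V).comp S.subtype)
    (V := (⊤ : Subgroup V).map inl) ⟨inferInstance, by
      rintro _ ⟨v, -, rfl⟩; rw [← map_pow, hV, map_one]⟩ (fun a => sd_norm S ⟨a, a.2, rfl⟩) hS
    (B := zpowers b) fun h => hb (sd_comm.1 (h ⟨b, mem_zpowers b, rfl⟩ _ ⟨v, trivial, rfl⟩).symm)
  refine ⟨ψ, hψ, fun e => h1 (hψ.isCharacter.mem_charKer_iff.1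
    (zpowers_le.2 (hψ.isCharacter.mem_charKer_iff.2 e) hc)), ?_⟩
  have := Fintype.ofFinite (⊥ : Subgroup S)
  obtain ⟨m, h3, h4⟩ := h2 ⊥
  rw [classInner_one_of_forall fun x hx => by rw [mem_bot.mp hx]] at h3
  have h5 := h4.trans (card_dvd_of_le inf_le_left)
  rw [card_map_of_injective inl_injective, card_top, hd, Nat.pow_dvd_pow_iff_le_right ht.out.one_lt] at h5
  rwa [charDegree_eq_of_apply_one h3]

section Spec

open Cfsg.Lib.HH Cfsg.Lib.BG

theorem mem_zpowers_of_cyclic {Z : Type*} [Group Z] [Finite Z] [IsCyclic Z] {z : ℕ} (hz : z.Prime)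
    (hZ : IsPGroup z Z) {x y : Z} (hx : x ^ z = 1) (hy : y ≠ 1) : x ∈ zpowers y := by
  have := Fact.mk hz
  let _ := IsCyclic.commGroup (α := Z)
  obtain ⟨w, hw, h1⟩ := Core.exists_mem_orderOf_eq_prime hz
    (pgroup_dvd_card (hZ.to_subgroup (zpowers y)) (by simpa using hy))
  have h2 : zpowers w ≤ (powMonoidHom z : Z →* Z).ker := zpowers_le.2 (by
    change w ^ z = 1; rw [← h1, pow_orderOf_eq_one])
  have h3 := eq_of_le_of_card_ge h2 (by
    rw [IsCyclic.card_powMonoidHom_ker, Nat.card_zpowers, h1]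
    exact Nat.le_of_dvd hz.pos (Nat.gcd_dvd_right _ _))
  exact zpowers_le.2 hw (h3 ▸ (hx : x ∈ (powMonoidHom z : Z →* Z).ker))

omit [Finite V] in
theorem ab_fpf {A B S : Subgroup H} (hAS : A ≤ 𝐍(S)) (hBA : B ≤ A) (hAB : A ≤ 𝐍(B))
    (hc : (Nat.card B).Coprime (Nat.card S)) (hn : ¬ B ≤ 𝐂(S))
    (hmin : ∀ D < S, A ≤ 𝐍(D) → D ≤ 𝐂(B)) (hab : IsMulCommutative S) : S ⊓ 𝐂(B) = ⊥ := by
  have hd := (coprime_abelian_cent_dprod (hBA.trans hAS) hc hab).inf
  have hl := comm_le_left (hBA.trans hAS)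
  rcases hl.lt_or_eq with h | h
  · have h1 : ⁅S, B⁆ = ⊥ := by
      rw [← hd]; exact (inf_eq_left.2 (le_inf hl (hmin _ h (norm_comm hAS hAB)))).symm
    exact (hn (cent_symm (commutator_eq_bot_iff_le_centralizer.1 h1))).elim
  · rwa [h, ← inf_assoc, inf_idem] at hd

variable [FaithfulSMul H V] {t d u : ℕ} [ht : Fact t.Prime] (hV : ∀ v : V, v ^ t = 1)
  (hd : Nat.card V = t ^ d)

omit [Finite H] [Finite V] in
theorem exists_moved {g : H} (hg : g ≠ 1) : ∃ v : V, g • v ≠ v := by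
  by_contra! h
  exact hg (FaithfulSMul.eq_of_smul_eq_smul fun v : V => by rw [h v, one_smul])

include hV hd

theorem spec_sq {B S : Subgroup H} (h : Spec u B S) (hS : ¬ t ∣ Nat.card S) :
    ∃ (e : ℕ) (D : Subgroup H), 1 < e ∧ e ≤ d ∧ D ≤ S ∧ 𝐙(S) ≤ D ∧ e ^ 2 = D.relIndex S ∧
      B ≤ 𝐍(D) ∧ ((Nat.card ↥𝐙(S)).Prime → D = 𝐙(S)) := by
  have hZ : 𝐙(S) ≠ ⊥ := fun e => h.ne_bot (by
    have := commutator_eq_bot_iff_le_centralizer.1 (h.der.trans e)
    rwa [inf_eq_left.2 this] at e)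
  obtain ⟨b, hb, hb1⟩ := exists_ne_one hZ
  obtain ⟨v, hv⟩ := exists_moved (V := V) hb1
  obtain ⟨ψ, hψ, h1, h2⟩ := exists_irr_le hV hd hS (b := ⟨b, hb.1⟩) hv
  have hc : ∀ x ∈ S, ∀ y ∈ S, ⁅x, y⁆ ∈ 𝐙(S) := fun x hx y hy =>
    h.der ▸ commutator_mem_commutator hx hy
  obtain ⟨D, h3, h4⟩ := exists_sq hψ fun x y =>
    mem_center_iff.2 fun g => Subtype.ext ((hc x x.2 y y.2).2 g g.2)
  have hm : ∀ x, x ∈ D.map S.subtype ↔ ∃ hx : x ∈ S, ∀ y : S, ψ ⁅(⟨x, hx⟩ : S), y⁆ = ψ 1 := fun x =>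
    ⟨fun ⟨y, h5, h6⟩ => by subst h6; exact ⟨y.2, (h4 y).1 h5⟩, fun ⟨hx, h5⟩ => ⟨⟨x, hx⟩, (h4 _).2 h5, rfl⟩⟩
  have hZD : 𝐙(S) ≤ D.map S.subtype := fun x hx => (hm x).2 ⟨hx.1, fun y => by
    rw [commutatorElement_eq_one_iff_mul_comm.2 (Subtype.ext (hx.2 y y.2).symm)]⟩
  have hB : ∀ a ∈ B, ∀ x ∈ D.map S.subtype, a * x * a⁻¹ ∈ D.map S.subtype := fun a ha x hx => by
    obtain ⟨hx, h5⟩ := (hm x).1 hx
    refine (hm _).2 ⟨conj_mem_of_norm (h.norm ha) hx, fun y => ?_⟩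
    have hy := conj_mem_of_norm' (h.norm ha) y.2
    rw [← h5 ⟨_, hy⟩]
    congr 1
    apply Subtype.ext
    have h6 := (h.cent.ge (hc x hx _ hy)).2 a ha
    change ⁅a * x * a⁻¹, (y : H)⁆ = ⁅x, a⁻¹ * y * a⁆
    rw [← mul_inv_eq_iff_eq_mul] at h6
    rw [← h6]
    simp only [commutatorElement_def]; group
  refine ⟨charDegree ψ, D.map S.subtype, ?_, h2, map_subtype_le D, hZD, ?_, fun a ha => ?_, fun hp => ?_⟩
  · by_contra h5
    have h6 : ψ 1 = 1 := hψ.isCharacter.charDegree_eq_one_iff.1 (by have := hψ.charDegree_pos; omega)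
    refine h1 (h6 ▸ CharDeg.apply_eq_one_of_mem_commutator hψ.isCharacter h6 ?_)
    have : b ∈ (_root_.commutator S).map S.subtype := by rw [map_subtype_commutator, h.der]; exact hb
    obtain ⟨c, h7, rfl⟩ := this
    exact h7
  · rw [h3, relIndex, subgroupOf, comap_map_eq_self_of_injective S.subtype_injective]
  · refine mem_normalizer_iff.2 fun x => ⟨hB a ha x, fun hx => ?_⟩
    simpa [mul_assoc] using hB _ (inv_mem ha) _ hx
  · refine le_antisymm (fun x hx => ?_) hZD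
    obtain ⟨hx, h5⟩ := (hm x).1 hx
    refine ⟨hx, fun y hy => (commutatorElement_eq_one_iff_mul_comm.1 ?_).symm⟩
    by_contra h6
    have h7 : zpowers ⁅x, y⁆ ≤ 𝐙(S) := zpowers_le.2 (hc x hx y hy)
    have h8 := eq_of_le_of_card_ge h7 (by
      rcases (Nat.dvd_prime hp).1 (card_dvd_of_le h7) with e | e
      · exact (h6 (by simpa using e)).elim
      · exact e.ge)
    obtain ⟨k, hk⟩ := h8.ge hb
    have h9 := zpow_mem (hψ.isCharacter.mem_charKer_iff.2 (h5 ⟨y, hy⟩)) k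
    exact h1 (hψ.isCharacter.mem_charKer_iff.1 (by convert h9 using 1; exact Subtype.ext hk.symm))

/-- A cyclic group of prime power order acting fixed point freely and irreducibly. -/
theorem zlem [Nontrivial V] [hu : Fact u.Prime] {z : ℕ} (hz : z.Prime) {Z T : Subgroup H} {y : H}
    (hZ : IsPGroup z Z) (hZc : IsCyclic Z) (hy : y ∈ Z) (hyz : orderOf y = z) (huz : u ≠ z) (hut : u ≠ t)
    (hT : IsPGroup u T) (hZT : Z ≤ 𝐍(T)) (hn : y ∉ 𝐂(T))
    (hirr : ∀ W : Subgroup V, (∀ w ∈ W, y • w ∈ W) → W = ⊥ ∨ W = ⊤) (hfx : fx V (zpowers y) = ⊥) :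
    ∃ e, 1 < e ∧ e ≤ d ∧ (∃ i, e ^ 2 = u ^ i) ∧ Nat.card Z ∣ e ^ 2 - 1 := by
  have := Fact.mk hz
  have hyZ : zpowers y ≤ Z := zpowers_le.2 hy
  have hzu : ∀ S ≤ T, (Nat.card Z).Coprime (Nat.card S) := fun S hS =>
    IsPGroup.coprime_card_of_ne z u huz.symm _ _ hZ (pgroup_of_le hT hS)
  have hab : Z ≤ 𝐂(Z) := by have := hZc.isMulCommutative; exact le_centralizer Z
  have hAB : Z ≤ 𝐍(zpowers y) := (hab.trans (centralizer_le hyZ)).trans (centralizer_le_normalizer _)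
  obtain ⟨S, h1, h2, h3, h4, h5⟩ := exists_spec hT hZT hyZ hAB
    (coprime_mono (hzu T le_rfl) hyZ le_rfl) (by simpa using hn)
  have hS := pgroup_of_le hT h1
  have hc : (Nat.card S).Coprime (Nat.card V) := by
    obtain ⟨k, hk⟩ := IsPGroup.iff_card.1 hS
    rw [hk, hd]; exact ((Nat.coprime_primes hu.out ht.out).2 hut).pow _ _
  have hcy : ∀ x ∈ Z, x ≠ 1 → 𝐂[x] ≤ 𝐂(zpowers y) := fun x hx hx1 => by
    have h6 : (⟨y, hy⟩ : Z) ∈ zpowers (⟨x, hx⟩ : Z) := mem_zpowers_of_cyclic hz hZ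
      (Subtype.ext (by change y ^ z = 1; rw [← hyz, pow_orderOf_eq_one])) (by simpa using hx1)
    obtain ⟨k, hk⟩ := h6
    have h7 : zpowers y ≤ zpowers x := zpowers_le.2 ⟨k, congrArg Subtype.val hk⟩
    rw [← cent_zpowers]; exact centralizer_le h7
  rcases h5 with h5 | h5
  · have h6 := ab_fpf h2 hyZ hAB (coprime_mono (hzu S h1) hyZ le_rfl) h3 h4 h5
    refine (h3 fun a _ b hb => ?_).elim
    obtain ⟨v, hv⟩ | rfl : (∃ v : V, b • v ≠ v) ∨ b = 1 := (em (b = 1)).symm.imp_left exists_moved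
    · exact (hv (fix_of_frob (hyZ.trans h2) (fun x hx hx1 => eq_bot_mono h6
        (inf_le_inf_left _ (hcy x (hyZ hx) hx1))) hc hfx hb v)).elim
    · simp
  · obtain ⟨e, D, e1, e2, e5, -, e3, -, e4⟩ := spec_sq hV hd h5 fun h =>
      hut (pgroup_eq_of_dvd hS ht.out h).symm
    have hcyc : IsCyclic ↥𝐙(S) := isCyclic_of_fpf (V := V) h5.elab.1
      (hc.coprime_dvd_left (card_dvd_of_le inf_le_left)) fun c hc v hv => by
        have h6 : y ∈ 𝐍(zpowers c) := centralizer_le_normalizer _ (by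
          rw [cent_zpowers]; exact mem_cent1.2 ((h5.cent.ge hc).2 y (mem_zpowers y)))
        have h7 : v ∈ fx V (zpowers c) := fun a ha => (zpowers_le.2 (mem_stabilizer_iff.2 hv) ha :)
        rcases hirr _ fun w hw => smul_mem_fx h6 hw with h8 | h8
        · exact Or.inr (mem_bot.1 (h8 ▸ h7))
        · left
          by_contra h9
          obtain ⟨w, hw⟩ := exists_moved (V := V) h9
          exact hw (h8.ge (mem_top w) c (mem_zpowers c))
    have hp : (Nat.card ↥𝐙(S)).Prime := by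
      obtain ⟨g, hg⟩ := hcyc.exists_generator
      have h6 := orderOf_eq_card_of_forall_mem_zpowers hg
      have h7 : orderOf g ∣ u := orderOf_dvd_of_pow_eq_one (Subtype.ext (h5.elab.2 g g.2))
      rcases (Nat.dvd_prime hu.out).1 h7 with h8 | h8
      · refine (h5.ne_bot ?_).elim
        have h9 := card_eq_one.1 (h6.symm.trans h8)
        have := commutator_eq_bot_iff_le_centralizer.1 (h5.der.trans h9)
        rwa [inf_eq_left.2 this] at h9
      · rw [← h6, h8]; exact hu.out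
    obtain rfl := e4 hp
    have h6 := (conj_count e5 h2 (Coprime.le_normalizer_inf h2 (Coprime.le_normalizer_centralizer h2))).2
      fun x hx hx1 => (inf_le_inf_left _ (hcy x hx hx1)).trans h5.cent.le
    rw [← e3] at h6
    refine ⟨e, e1, e2, ?_, (hzu _ (e5.trans h1)).dvd_of_dvd_mul_left h6⟩
    obtain ⟨k, hk⟩ := IsPGroup.iff_card.1 hS
    obtain ⟨i, -, hi⟩ := (Nat.dvd_prime_pow hu.out).1 (hk ▸ Subgroup.relIndex_dvd_card 𝐙(S) S)
    exact ⟨i, e3.trans hi⟩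

/-- Odd order automorphisms of `2`-subgroups of `GL₂(t)`. -/
theorem two_lem (hd2 : d = 2) {q : ℕ} [hq : Fact q.Prime] (hq2 : q ≠ 2) (ht2 : t ≠ 2) {Q T : Subgroup H}
    (hQ : IsPGroup q Q) (hT : IsPGroup 2 T) (hQT : Q ≤ 𝐍(T)) (hn : ¬ Q ≤ 𝐂(T)) : q = 3 := by
  subst hd2
  have hqu : ∀ S ≤ T, (Nat.card Q).Coprime (Nat.card S) := fun S hS =>
    IsPGroup.coprime_card_of_ne q 2 hq2 _ _ hQ (pgroup_of_le hT hS)
  obtain ⟨S, h1, h2, h3, h4, h5⟩ := exists_spec hT hQT le_rfl (le_norm Q) (hqu T le_rfl) hn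
  have hS := pgroup_of_le hT h1
  have hne : S ≠ ⊥ := by rintro rfl; exact h3 (cent_symm bot_le)
  have fin : ∀ D ≤ S, D ≠ S → Q ≤ 𝐍(D) → S ⊓ 𝐂(Q) ≤ D → D.relIndex S ≤ 4 → q = 3 := fun D e1 e2 e3 e4 e5 => by
    have h6 := (conj_count e1 h2 e3).1 hq.out hQ e4
    have h7 : q ∣ D.relIndex S - 1 := (((Nat.Prime.dvd_mul hq.out).1 h6).resolve_left fun h =>
      hq2 (pgroup_eq_of_dvd (pgroup_of_le hS e1) hq.out h))
    have h8 : D.relIndex S ≠ 1 := fun h => e2 (le_antisymm e1 (relIndex_eq_one.1 h))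
    have h9 : D.relIndex S ≠ 0 := index_ne_zero_of_finite
    have := Nat.le_of_dvd (by omega) h7
    have := hq.out.two_le
    omega
  rcases h5 with h5 | h5
  · have h6 := ab_fpf h2 le_rfl (le_norm Q) (hqu S h1) h3 h4 h5
    have hE : Core.powKer S 2 = S := by
      by_contra h7
      have h8 : Core.powKer S 2 ≤ S := fun x hx => hx.1
      obtain ⟨x, hx, h9⟩ := Core.exists_mem_orderOf_eq_prime Nat.prime_two (pgroup_dvd_card hS hne)
      have : x ∈ S ⊓ 𝐂(Q) := ⟨hx, h4 _ (h8.lt_of_ne h7) (h2.trans (Core.normalizer_le_normalizer_powKer S 2))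
        ⟨hx, h9 ▸ pow_orderOf_eq_one x⟩⟩
      rw [h6, mem_bot] at this
      simp [this] at h9
    have hel : IsElementaryAbelian 2 S := ⟨h5, fun a ha => (hE.ge ha).2⟩
    have hc : (Nat.card S).Coprime (Nat.card V) := by
      obtain ⟨k, hk⟩ := IsPGroup.iff_card.1 hS
      rw [hk, hd]; exact ((Nat.coprime_primes Nat.prime_two ht.out).2 ht2.symm).pow _ _
    have hnt : Nontrivial V := Finite.one_lt_card_iff_nontrivial.1 (hd ▸ Nat.one_lt_pow two_ne_zero ht.out.one_lt)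
    have key : ∀ W : Subgroup V, W ≠ ⊤ → ∃ B ≤ S, B.relIndex S = 2 ∧ ¬ fx V B ≤ W := fun W hW => by
      by_contra! h; exact hW (eq_top_of_hyper hel hne hc h)
    have triv : ∀ B : Subgroup H, fx V B = ⊤ → B = ⊥ := fun B hB => (eq_bot_iff_forall _).2 fun b hb => by
      by_contra h
      obtain ⟨w, hw⟩ := exists_moved (V := V) h
      exact hw (hB.ge (mem_top w) b hb)
    refine fin ⊥ bot_le hne.symm le_normalizer_of_normal h6.le ?_
    obtain ⟨B, -, b2, b3⟩ := key ⊥ bot_ne_top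
    by_cases hB : fx V B = ⊤
    · rw [← triv B hB]; omega
    obtain ⟨C, -, c2, c3⟩ := key _ hB
    have h7 : fx V (B ⊓ C) = ⊤ := by
      have l1 : fx V B < fx V (B ⊓ C) := lt_of_le_of_ne (fun v hv a ha => hv a ha.1)
        fun e => c3 (e ▸ fun v hv a ha => hv a ha.2)
      have l2 : (⊥ : Subgroup V) < fx V B := bot_lt_iff_ne_bot.2 fun e => b3 e.le
      obtain ⟨i, hi, e1⟩ := (Nat.dvd_prime_pow ht.out).1 (hd ▸ card_subgroup_dvd_card (fx V B))
      obtain ⟨j, hj, e2⟩ := (Nat.dvd_prime_pow ht.out).1 (hd ▸ card_subgroup_dvd_card (fx V (B ⊓ C)))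
      have l3 := Core.card_lt_card_of_lt l1
      have l4 := Core.card_lt_card_of_lt l2
      rw [e1, e2, Nat.pow_lt_pow_iff_right ht.out.one_lt] at l3
      rw [card_bot, e1] at l4
      have : i ≠ 0 := by rintro rfl; simp at l4
      exact eq_top_of_card_eq _ (by rw [e2, hd]; congr 1; omega)
    rw [← triv _ h7]
    exact (relIndex_inf_le).trans (by rw [b2, c2])
  · obtain ⟨e, D, e1, e2, e5, e6, e3, e7, -⟩ := spec_sq hV hd h5 fun h =>
      ht2 (pgroup_eq_of_dvd hS ht.out h)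
    refine fin D e5 (fun h => ?_) e7 (h5.cent.le.trans e6) (by rw [← e3]; nlinarith)
    rw [h, relIndex_self] at e3
    nlinarith

end Spec

end Cfsg.Lib.Pal
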