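import Cfsg.Agent.Lib.Pal.Mod
import Cfsg.Agent.Lib.CharDeg.RelGraph

/-! Clifford theory lemmas for the character degree graph of a solvable group. -/

set_option autoImplicit false

namespace Cfsg.Lib.Pal

open Subgroup MulAction Cfsg.Lib.Char Cfsg.Lib.BG Cfsg.Lib.Core Cfsg.Lib.CharDeg Cfsg.Lib.Clifford
  Cfsg.Lib.RelGraph
open scoped commutatorElement

variable {G : Type*} [Group G] [Finite G]

variable (G) in
/-- `a` divides some irreducible character degree. -/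
def Rho (a : ℕ) : Prop := ∃ n ∈ cd G, a ∣ n

theorem Rho.of_quot {a : ℕ} {N : Subgroup G} [N.Normal] (h : Rho (G ⧸ N) a) : Rho G a :=
  let ⟨n, h1, h2⟩ := h; ⟨n, cd_quotient_subset N h1, h2⟩

theorem Rho.not_comm {s : ℕ} [Fact s.Prime] (h : Rho G s) (S : Sylow s G) (hS : (S : Subgroup G).Normal) :
    ⁅(S : Subgroup G), (S : Subgroup G)⁆ ≠ ⊥ := fun e => by
  obtain ⟨n, h1, h2⟩ := h
  exact S.not_dvd_index (h2.trans (dvd_index_of_comm
    (fun a ha b hb => (commutator_eq_bot_iff_le_centralizer.1 e ha b hb).symm) h1))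

theorem ito [Group.IsSolvable G] {s : ℕ} [Fact s.Prime] (h : ¬ Rho G s) :
    ¬ s ∣ (pCore s G).index ∧ ∀ a ∈ pCore s G, ∀ b ∈ pCore s G, a * b = b * a :=
  have h' : ∀ n ∈ cd G, ¬ s ∣ n := fun n h1 h2 => h ⟨n, h1, h2⟩
  ⟨not_dvd_index_pCore_of_cd G (isPSolvable_of_isSolvable inferInstance) h',
    comm_of_normal_of_not_dvd_cd (pCore_isPGroup s G) h'⟩

theorem normal_of_sup {s : ℕ} [Fact s.Prime] (S : Sylow s G) {N : Subgroup G}
    [((S : Subgroup G) ⊔ N).Normal] (h : N ≤ 𝐍((S : Subgroup G))) : (S : Subgroup G).Normal := by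
  have h1 : 𝐍((S : Subgroup G)) ⊔ ((S : Subgroup G) ⊔ N) = ⊤ :=
    Sylow.normalizer_sup_eq_top' (N := (S : Subgroup G) ⊔ N) S (le_sup_left (a := (S : Subgroup G)))
  rw [sup_eq_left.2 (sup_le (le_norm _) h)] at h1
  exact normalizer_eq_top_iff.1 h1

theorem key [Group.IsSolvable G] {N : Subgroup G} [N.Normal] {θ : N → ℂ} (hθ : IsIrrCharacter N θ)
    {η : inertia N θ → ℂ} (hη : IsCharacter _ η)
    (hext : ∀ n : N, η ⟨n, le_inertia N hθ.isClassFunction n.2⟩ = θ n) {a s : ℕ} (ha : a.Prime)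
    [hs : Fact s.Prime] (has : a ≠ s) (hn : ¬ Rho G (a * s)) (hd : a ∣ (inertia N θ).index * charDegree θ) :
    ∃ S : Sylow s (G ⧸ N), (S : Subgroup (G ⧸ N)) ≤ (inertia N θ).map (QuotientGroup.mk' N) ∧
      (∀ S' : Sylow s (G ⧸ N), (S' : Subgroup (G ⧸ N)) ≤ (inertia N θ).map (QuotientGroup.mk' N) → S' = S) ∧
      ⁅(S : Subgroup (G ⧸ N)), (S : Subgroup (G ⧸ N))⁆ = ⊥ := by
  set T := inertia N θ
  have h1 : ∀ n ∈ cd (T ⧸ N.subgroupOf T), ¬ s ∣ T.index * n := fun n h2 h3 =>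
    hn ⟨_, mul_mem_cd_of_extension N hθ _ le_rfl hη hext h2,
      ((Nat.coprime_primes ha hs.out).2 has).mul_dvd_of_dvd_of_dvd
        (hd.trans (Nat.mul_dvd_mul_left _ (dvd_mul_left _ _))) (mul_assoc _ n _ ▸ h3.mul_right _)⟩
  obtain ⟨h2, h3⟩ := ito (G := T ⧸ N.subgroupOf T) (s := s) fun ⟨n, h2, h3⟩ => h1 n h2 (h3.mul_left _)
  let ρ : T ⧸ N.subgroupOf T →* G ⧸ N := QuotientGroup.map _ N T.subtype le_rfl
  have hρ : Function.Injective ρ := (injective_iff_map_eq_one ρ).2 fun x hx => by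
    obtain ⟨x, rfl⟩ := QuotientGroup.mk_surjective x
    exact (QuotientGroup.eq_one_iff _).2 ((QuotientGroup.eq_one_iff (x : G)).1 hx)
  have hr : ρ.range = T.map (QuotientGroup.mk' N) := by
    ext x
    refine ⟨?_, fun ⟨y, hy, e⟩ => ⟨(⟨y, hy⟩ : T), e⟩⟩
    rintro ⟨y, rfl⟩
    obtain ⟨y, rfl⟩ := QuotientGroup.mk_surjective y
    exact ⟨y, y.2, rfl⟩
  have h4 : ¬ s ∣ ((pCore s _).map ρ).index := by
    rw [index_map, hr]
    refine hs.out.not_dvd_mul (fun h => h2 (h.trans (index_dvd_of_le le_sup_left))) fun h =>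
      h1 1 one_mem_cd ((h.trans (index_map_dvd _ (QuotientGroup.mk'_surjective N))).mul_right _)
  refine ⟨((pCore_isPGroup s _).map ρ).toSylow h4, hr ▸ map_le_range _ _, fun S hS => ?_, ?_⟩
  · refine FGS.sylow_eq_of_le ?_
    obtain ⟨U, hU⟩ := (S.2.comap_of_injective ρ hρ).exists_le_sylow
    rw [sylow_eq_pCore_of_not_dvd_index h2] at hU
    rw [← map_comap_eq_self (hr ▸ hS : (S : Subgroup (G ⧸ N)) ≤ ρ.range)]
    exact map_mono hU
  · change ⁅(pCore s _).map ρ, (pCore s _).map ρ⁆ = ⊥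
    rw [← map_commutator, commutator_eq_bot_iff_le_centralizer.2 fun a ha b hb => h3 b hb a ha,
      Subgroup.map_bot]

theorem key_cop [Group.IsSolvable G] {N : Subgroup G} [N.Normal] (hc : (Nat.card N).Coprime N.index)
    {θ : N → ℂ} (hθ : IsIrrCharacter N θ) {a s : ℕ} (ha : a.Prime)
    [hs : Fact s.Prime] (has : a ≠ s) (hn : ¬ Rho G (a * s)) (hd : a ∣ (inertia N θ).index * charDegree θ) :
    ∃ S : Sylow s (G ⧸ N), (S : Subgroup (G ⧸ N)) ≤ (inertia N θ).map (QuotientGroup.mk' N) ∧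
      (∀ S' : Sylow s (G ⧸ N), (S' : Subgroup (G ⧸ N)) ≤ (inertia N θ).map (QuotientGroup.mk' N) → S' = S) ∧
      ⁅(S : Subgroup (G ⧸ N)), (S : Subgroup (G ⧸ N))⁆ = ⊥ := by
  have h1 := le_inertia N hθ.isClassFunction
  obtain ⟨η, h2, h3⟩ := exists_extension_le_of_coprime N h1 hθ le_rfl
    (hc.coprime_dvd_right (relIndex_dvd_index_of_le h1))
  exact key hθ h2.isCharacter h3 ha has hn hd

omit [Finite G] in
theorem exists_act (M N : Subgroup G) [M.Normal] [N.Normal] (h : ∀ g ∈ N, ∀ a : Lin M, cj g a = a) :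
    ∃ _ : MulDistribMulAction (G ⧸ N) (Lin M), (∀ (g : G) (a : Lin M), (g : G ⧸ N) • a = cj g⁻¹ a) ∧
      ∀ a : Lin M, stabilizer (G ⧸ N) a = (inertia M (lin a)).map (QuotientGroup.mk' N) := by
  have h1 : ∀ a : Lin M, cj (1 : G) a = a := fun a => h 1 (one_mem _) a
  let φ : G →* MulAut (Lin M) :=
    { toFun := fun g =>
        { toFun := cj g⁻¹
          invFun := cj g
          left_inv := fun a => by rw [← cj_mul, inv_mul_cancel, h1]
          right_inv := fun a => by rw [← cj_mul, mul_inv_cancel, h1]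
          map_mul' := map_mul _ }
      map_one' := MulEquiv.ext fun a => by simpa using h1 a
      map_mul' := fun g g' => MulEquiv.ext fun a => by
        change cj (g * g')⁻¹ a = cj g⁻¹ (cj g'⁻¹ a); rw [mul_inv_rev, cj_mul] }
  refine ⟨MulDistribMulAction.compHom _ (QuotientGroup.lift N φ fun g hg => MulEquiv.ext (h _ (inv_mem hg))),
    fun _ _ => rfl, fun a => ?_⟩
  ext x
  refine ⟨?_, ?_⟩
  · obtain ⟨g, rfl⟩ := QuotientGroup.mk_surjective x
    exact fun hg => ⟨g, inv_mem_iff.1 (mem_inertia_lin.2 hg), rfl⟩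
  · rintro ⟨g, hg, rfl⟩
    exact mem_inertia_lin.1 (inv_mem hg)

omit [Finite G] in
theorem exists_ext_split {N C : Subgroup G} [hN : N.Normal] (h1 : N ⊓ C = ⊥) (h2 : N ⊔ C = ⊤)
    (lam : N →* ℂˣ) {T : Subgroup G} (hNT : N ≤ T) (hT : T ≤ inertia N fun a => (lam a : ℂ)) :
    ∃ η : T →* ℂˣ, ∀ n : N, η ⟨n, hNT n.2⟩ = lam n := by
  have ex : ∀ g : G, ∃ n : N, (n : G)⁻¹ * g ∈ C := fun g => by
    obtain ⟨n, hn, c, hc, rfl⟩ := mem_sup_of_normal_left.1 (h2.ge (mem_top g))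
    exact ⟨⟨n, hn⟩, by simpa using hc⟩
  choose ν hν using ex
  have un : ∀ (g : G) (n : N), (n : G)⁻¹ * g ∈ C → ν g = n := fun g n h => by
    have : (n : G)⁻¹ * ν g ∈ N ⊓ C := mem_inf.2 ⟨mul_mem (inv_mem n.2) (ν g).2, by
      simpa [mul_assoc] using mul_mem h (inv_mem (hν g))⟩
    rw [h1, mem_bot, inv_mul_eq_one] at this
    exact Subtype.ext this.symm
  refine ⟨MonoidHom.mk' (fun g => lam (ν g)) fun g g' => ?_, fun n => congrArg lam (un _ n (by simp))⟩
  have h3 := mem_inertia_hom.1 (hT (mul_mem (inv_mem (hNT (ν g).2)) g.2)) (ν g')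
  rw [← h3, ← map_mul]
  refine congrArg lam (un _ _ ?_)
  convert mul_mem (hν g) (hν g') using 1
  simp only [coe_mul]; group

theorem exists_hom_sep {M : Subgroup G} (h : _root_.commutator G ≤ M) {x : G} (hx : x ∉ M) :
    ∃ lam : G →* ℂˣ, (∀ m ∈ M, lam m = 1) ∧ lam x ≠ 1 := by
  have : M.Normal := Normal.of_commutator_le G h
  have := isMulCommutative_quotient_of_commutator M fun x y => h (commutator_mem_commutator (mem_top x) (mem_top y))
  obtain ⟨lam, h1⟩ := exists_hom_apply_ne (g := (x : G ⧸ M)) fun e => hx ((QuotientGroup.eq_one_iff x).1 e)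
  refine ⟨lam.comp (QuotientGroup.mk' M), fun m hm => ?_, h1⟩
  rw [MonoidHom.comp_apply, QuotientGroup.mk'_apply, (QuotientGroup.eq_one_iff m).2 hm, map_one]

omit [Finite G] in
theorem ev_eq_one {N : Subgroup G} {a : Lin N} (h : ∀ n, ev n a = 1) : a = 1 :=
  lin_injective (funext fun n => h n)

omit [Finite G] in
theorem comm_le_ker {N M : Subgroup G} [hN : N.Normal] {a : Lin N} (h : M ≤ inertia N (lin a)) {x : N}
    (hx : (x : G) ∈ ⁅N, M⁆) : ev x a = 1 := by
  have : ⁅N, M⁆ ≤ a.hom.ker.map N.subtype := commutator_le.2 fun n hn m hm => by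
    refine ⟨⟨n, hn⟩ * (⟨m * n * m⁻¹, hN.conj_mem n hn m⟩ : N)⁻¹, ?_, by simp [commutatorElement_def, mul_assoc]⟩
    have := mem_inertia_hom.1 (h hm) ⟨n, hn⟩
    rw [SetLike.mem_coe, MonoidHom.mem_ker, map_mul, map_inv, mul_inv_eq_one]
    exact this.symm
  obtain ⟨y, h1, h2⟩ := this hx
  obtain rfl : y = x := Subtype.ext h2
  exact congrArg Units.val h1

theorem a0 [Group.IsSolvable G] {N : Subgroup G} [N.Normal] (hN : IsMinNormal N) {s : ℕ} [hs : Fact s.Prime]
    (h1 : Rho G s) (h2 : ¬ Rho (G ⧸ N) s) (S : Sylow s G) :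
    ((S : Subgroup G).Normal → ⁅(S : Subgroup G), (S : Subgroup G)⁆ = N) ∧
    (¬ (S : Subgroup G).Normal → ((S : Subgroup G) ⊔ N).Normal ∧
      ∀ a : Lin N, a ≠ 1 → s ∣ (inertia N (lin a)).index) := by
  obtain ⟨h3, h4⟩ := ito h2
  have h5 : ∀ S : Sylow s G, (S : Subgroup G).map (QuotientGroup.mk' N) = pCore s (G ⧸ N) := fun S =>
    sylow_eq_pCore_of_not_dvd_index h3 (S.mapSurjective (QuotientGroup.mk'_surjective N))
  have h6 : ∀ S : Sylow s G, ((S : Subgroup G) ⊔ N).Normal := fun S => by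
    rw [← QuotientGroup.ker_mk' N, ← comap_map_eq, h5]; infer_instance
  refine ⟨fun h => (hN.min _ inferInstance ?_).resolve_left (h1.not_comm S h), fun h => ⟨h6 S, fun a ha => ?_⟩⟩
  · rw [← QuotientGroup.ker_mk' N, ← Subgroup.map_eq_bot_iff, map_commutator, h5]
    exact commutator_eq_bot_iff_le_centralizer.2 fun a ha b hb => h4 b hb a ha
  · by_contra h7
    obtain ⟨T, hT⟩ := FGS.exists_sylow_le_of_not_dvd_index h7
    have := h6 T
    rcases hN.min ⁅N, T ⊔ N⁆ inferInstance (commutator_le_left _ _) with e | e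
    · have h8 := normal_of_sup T (N := N) (((commutator_eq_bot_iff_le_centralizer.1 e).trans
        (cent_anti le_sup_left)).trans (centralizer_le_normalizer _))
      have := T.unique_of_normal h8
      exact h (Subsingleton.elim T S ▸ h8)
    · exact ha (ev_eq_one fun n => comm_le_ker (sup_le hT (le_inertia N (irr_lin a).isClassFunction))
        (e.ge n.2))

theorem above [Group.IsSolvable G] {N P : Subgroup G} [hN : N.Normal] [hP : P.Normal] (hNP : N ≤ P)
    (hZ : N ≤ 𝐂(P)) (hc : (Nat.card P).Coprime P.index) (μ : Lin N) :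
    ∃ θ : P → ℂ, IsIrrCharacter P θ ∧ (∀ n : N, θ ⟨n, hNP n.2⟩ = θ 1 * ev n μ) ∧
      inertia P θ = inertia N (lin μ) := by
  classical
  set T := inertia N (lin μ)
  have hPT : P ≤ T := (cent_symm hZ).trans (centralizer_le_inertia N _)
  obtain ⟨A, hA⟩ := exists_right_complement'_of_coprime (N := P.subgroupOf T) (by
    rw [Nat.card_congr (subgroupOfEquivOfLe hPT).toEquiv]
    exact hc.coprime_dvd_right (relIndex_dvd_index_of_le hPT))
  let φ : A →* MulAut P := MulAut.conjNormal.comp (T.subtype.comp A.subtype)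
  have hφ : ∀ a, ∀ x ∈ N.subgroupOf P, φ a x ∈ N.subgroupOf P := fun a x hx => hN.conj_mem _ hx _
  have := Fintype.ofFinite (N.subgroupOf P)
  obtain ⟨θ, h1, h2⟩ := exists_invariant_above (A := A) inferInstance P (N.subgroupOf P) φ
    (restrictAut φ _ hφ) (N.subgroupOf P).subtype (subtype_injective _) (by rw [range_subtype]; infer_instance)
    (fun _ _ => rfl) (by
      rw [← hA.symm.index_eq_card]; exact hc.coprime_dvd_right (relIndex_dvd_index_of_le hPT))
    ⟨_, isIrrCharacter_hom (μ.hom.comp (subgroupOfEquivOfLe hNP).toMonoidHom)⟩ fun a g =>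
      (mem_inertia_iff N).1 a.1.2 ⟨g, g.2⟩
  have h3 : ∀ n : N, θ.1 ⟨n, hNP n.2⟩ = θ.1 1 * ev n μ := fun n => by
    have h4 := resMult_ne_zero_iff.1 h1
    dsimp only at h4
    have := Coprime.apply_div_eq_of_inner_ne_zero (Q := N.subgroupOf P) θ.2
      (isIrrCharacter_hom (μ.hom.comp (subgroupOfEquivOfLe hNP).toMonoidHom)) (by simpa only [subtype_apply] using h4)
      (z := ⟨⟨n, hNP n.2⟩, n.2⟩) (mem_center_iff.2 fun g => Subtype.ext (hZ n.2 g g.2))
    rw [map_one, Units.val_one, div_one, eq_div_iff θ.2.apply_one_ne_zero] at this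
    rw [mul_comm]; exact this.symm
  refine ⟨θ, θ.2, h3, le_antisymm (fun g hg => (mem_inertia_iff N).2 fun n => ?_) fun g hg => ?_⟩
  · have := (mem_inertia_iff P).1 hg ⟨n, hNP n.2⟩
    rw [h3 n, h3 ⟨_, hN.conj_mem _ n.2 g⟩] at this
    exact mul_left_cancel₀ θ.2.apply_one_ne_zero this
  · obtain ⟨⟨x, a⟩, e⟩ := hA.2 ⟨g, hg⟩
    rw [← show (x.1 : G) * a.1 = g from congrArg Subtype.val e]
    exact mul_mem (le_inertia P θ.2.isClassFunction x.2) ((mem_inertia_iff P).2 fun n => h2 a n)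

end Cfsg.Lib.Pal
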