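import Cfsg.Agent.Lib.Pal.Key

/-! Pálfy's three primes theorem. -/

set_option autoImplicit false

namespace Cfsg.Lib.Pal

open Subgroup MulAction Cfsg.Lib.Char Cfsg.Lib.BG Cfsg.Lib.Core Cfsg.Lib.CharDeg Cfsg.Lib.Clifford
  Cfsg.Lib.RelGraph
open scoped commutatorElement

universe u

section

variable {H V : Type*} [Group H] [CommGroup V] [MulDistribMulAction H V] [Finite H] {s : ℕ} [Fact s.Prime]

theorem NS.subsingleton [Nontrivial V] (h : NS H V s) {S : Sylow s H} (hS : fx V (S : Subgroup H) = ⊤) :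
    Subsingleton (Sylow s H) := by
  obtain ⟨v, hv⟩ := exists_ne (1 : V)
  have : ∀ T : Sylow s H, (T : Subgroup H) ≤ stabilizer H v := fun T => by
    obtain ⟨g, rfl⟩ := exists_smul_eq H S T
    have := le_stab_smul (S := S) (v := g⁻¹ • v) g fun a ha => hS.ge (mem_top _) a ha
    rwa [smul_inv_smul] at this
  exact ⟨fun a b => (h v hv).unique (this a) (this b)⟩

theorem count_pow [Finite V] {p k : ℕ} (hp : p.Prime) {W : Subgroup V} (hk : Nat.card W ∣ p ^ k) (h0 : W ≠ ⊥)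
    (hW : ∀ (g : H), ∀ v ∈ W, g • v ∈ W)
    (h : ∀ v ∈ W, v ≠ 1 → ∃! S : Sylow s H, (S : Subgroup H) ≤ stabilizer H v) (S : Sylow s H) :
    ∃ a c, 0 < c ∧ Nat.card W = p ^ a ∧ Nat.card ↥(W ⊓ fx V (S : Subgroup H)) = p ^ c ∧
      p ^ a + Nat.card (Sylow s H) = Nat.card (Sylow s H) * p ^ c + 1 := by
  have h1 := count_sub W hW h S
  obtain ⟨a, -, e1⟩ := (Nat.dvd_prime_pow hp).1 hk
  obtain ⟨c, -, e2⟩ := (Nat.dvd_prime_pow hp).1
    ((card_dvd_of_le (inf_le_left : W ⊓ fx V (S : Subgroup H) ≤ W)).trans hk)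
  refine ⟨a, c, Nat.pos_of_ne_zero ?_, e1, e2, by rwa [e1, e2] at h1⟩
  rintro rfl
  rw [e2, pow_zero, mul_one] at h1
  exact h0 (card_eq_one.1 (by omega))

end

variable {G : Type*} [Group G] [Finite G]

instance finiteLin (N : Subgroup G) : Finite (Lin N) := finite_hom_units N

theorem nontrivial_lin {N : Subgroup G} (h0 : N ≠ ⊥) [IsMulCommutative N] : Nontrivial (Lin N) := by
  have := (nontrivial_iff_ne_bot N).2 h0
  obtain ⟨y, hy⟩ := exists_ne (1 : N)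
  obtain ⟨lam, h⟩ := exists_hom_apply_ne hy
  exact ⟨lam, 1, fun e => h (by rw [e]; rfl)⟩

omit [Finite G] in
theorem lin_pow {N : Subgroup G} {t : ℕ} (h : ∀ x ∈ N, x ^ t = 1) (a : Lin N) : a ^ t = 1 :=
  ev_eq_one fun n => by
    rw [map_pow]
    change ((a.hom n : ℂˣ) : ℂ) ^ t = 1
    rw [← Units.val_pow_eq_pow_val, ← map_pow, show n ^ t = 1 from Subtype.ext (h n n.2), map_one, Units.val_one]

/-- The image of a Sylow subgroup in a quotient. -/
noncomputable abbrev bar {s : ℕ} [Fact s.Prime] (N : Subgroup G) [N.Normal] (S : Sylow s G) : Sylow s (G ⧸ N) :=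
  S.mapSurjective (QuotientGroup.mk'_surjective N)

theorem normal_sup_bar {s : ℕ} [Fact s.Prime] {N : Subgroup G} [N.Normal] [Subsingleton (Sylow s (G ⧸ N))]
    (S : Sylow s G) : ((S : Subgroup G) ⊔ N).Normal := by
  have := (bar N S).normal_of_subsingleton
  have h := this.comap (QuotientGroup.mk' N)
  rwa [Sylow.coe_mapSurjective, comap_map_eq, QuotientGroup.ker_mk'] at h

theorem le_of_bar_le {s : ℕ} [Fact s.Prime] {N T : Subgroup G} [N.Normal] (hN : N ≤ T) {S : Sylow s G}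
    (h : (bar N S : Subgroup (G ⧸ N)) ≤ T.map (QuotientGroup.mk' N)) : (S : Subgroup G) ≤ T := by
  have := map_le_iff_le_comap.1 h
  rwa [comap_map_eq, QuotientGroup.ker_mk', sup_eq_left.2 hN] at this

theorem le_inertia_of_fx {s : ℕ} [Fact s.Prime] {M N : Subgroup G} [M.Normal] [N.Normal]
    [MulDistribMulAction (G ⧸ N) (Lin M)] (hsm : ∀ (g : G) (a : Lin M), (g : G ⧸ N) • a = cj g⁻¹ a)
    {S : Sylow s G} {a : Lin M} : a ∈ fx (Lin M) (bar N S : Subgroup (G ⧸ N)) ↔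
      (S : Subgroup G) ≤ inertia M (lin a) := by
  refine ⟨fun h g hg => inv_mem_iff.1 (mem_inertia_lin.2 (hsm g a ▸ h _ ⟨g, hg, rfl⟩)), fun h => ?_⟩
  rintro _ ⟨g, hg, rfl⟩
  exact (hsm g a).trans (mem_inertia_lin.1 (inv_mem (h hg)))

variable [Group.IsSolvable G] {p q r : ℕ} [hp : Fact p.Prime] [hq : Fact q.Prime] [hr : Fact r.Prime]

theorem caseA (hpq : p ≠ q) (hpr : p ≠ r) (hqr : q ≠ r) {N : Subgroup G} [N.Normal] (hN : IsMinNormal N)
    (h1 : Rho G p) (h2 : ¬ Rho (G ⧸ N) p) (nP : ∀ P : Sylow p G, ¬ (P : Subgroup G).Normal)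
    (nQ : ∀ P : Sylow q G, ¬ (P : Subgroup G).Normal) (nR : ∀ P : Sylow r G, ¬ (P : Subgroup G).Normal)
    (a1 : ¬ Rho G (p * q)) (a2 : ¬ Rho G (p * r)) : Rho G (q * r) := by
  obtain ⟨P⟩ : Nonempty (Sylow p G) := inferInstance
  obtain ⟨h3, h4⟩ := (a0 hN h1 h2 P).2 (nP P)
  obtain ⟨t, ht, hel⟩ := hN.isElementaryAbelian inferInstance
  have := Fact.mk ht
  have := hel.1
  have h5 : N ⊔ 𝐍((P : Subgroup G)) = ⊤ := by
    have h5 : 𝐍((P : Subgroup G)) ⊔ ((P : Subgroup G) ⊔ N) = ⊤ :=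
      Sylow.normalizer_sup_eq_top' (N := (P : Subgroup G) ⊔ N) P (le_sup_left (a := (P : Subgroup G)))
    rwa [← sup_assoc, sup_eq_left.2 (le_norm _), sup_comm] at h5
  have h6 := hN.inf_eq_bot_of_sup_eq_top (fun e => nP P (normalizer_eq_top_iff.1 e)) h5
  obtain ⟨_, hsm, hst⟩ := exists_act N N fun g hg a =>
    mem_inertia_lin.1 (le_inertia N (irr_lin a).isClassFunction hg)
  have := nontrivial_lin hN.ne_bot
  have ns : ∀ (s : ℕ) [Fact s.Prime], p ≠ s → ¬ Rho G (p * s) → (∀ S : Sylow s G, ¬ (S : Subgroup G).Normal) →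
      NS (G ⧸ N) (Lin N) s ∧ ∀ S : Sylow s G, fx (Lin N) (bar N S : Subgroup (G ⧸ N)) ≠ ⊤ := fun s _ e1 e2 e3 => by
    have e4 : NS (G ⧸ N) (Lin N) s := fun a ha => by
      obtain ⟨η, hη⟩ := exists_ext_split h6 h5 a.hom (le_inertia N (irr_lin a).isClassFunction) le_rfl
      obtain ⟨S, e5, e6, -⟩ := key (irr_lin a) (isCharacter_hom η) (fun n => congrArg Units.val (hη n))
        hp.out e1 e2 ((h4 a ha).mul_right _)
      exact ⟨S, hst a ▸ e5, fun T hT => e6 T (hst a ▸ hT)⟩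
    refine ⟨e4, fun S e5 => e3 S ?_⟩
    have := e4.subsingleton e5
    have := normal_sup_bar (N := N) S
    exact normal_of_sup S (N := N) ((cent_symm fun g hg => mem_centralizer_of_forall_inertia
      (fun a ha b hb => setLike_mul_comm ha hb) fun lam =>
        (le_inertia_of_fx hsm (a := lam)).1 (e5.ge (mem_top _)) hg).trans (centralizer_le_normalizer _))
  obtain ⟨Q⟩ : Nonempty (Sylow q G) := inferInstance
  obtain ⟨R⟩ : Nonempty (Sylow r G) := inferInstance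
  exact Rho.of_quot (N := N) (mod_main (lin_pow hel.2) hqr (ns q hpq a1 nQ).1 (ns r hpr a2 nR).1 _ _
    ((ns q hpq a1 nQ).2 Q) ((ns r hpr a2 nR).2 R))

section B

variable {P : Subgroup G} [P.Normal] (hP : IsPGroup p P) (hi : ¬ p ∣ P.index)
include hP hi

omit [Group.IsSolvable G] [P.Normal] in
theorem cop_of_syl : (Nat.card P).Coprime P.index := by
  obtain ⟨k, hk⟩ := IsPGroup.iff_card.1 hP
  exact hk ▸ ((Nat.Prime.coprime_iff_not_dvd hp.out).2 hi).pow_left k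

theorem above' {N : Subgroup G} [N.Normal] (hN : IsMinNormal N) (h : N ≤ ⁅P, P⁆) {μ : Lin N} (hμ : μ ≠ 1) :
    ∃ θ : P → ℂ, IsIrrCharacter P θ ∧ p ∣ charDegree θ ∧
      (∀ n : N, θ ⟨n, h.trans (commutator_le_left P P) n.2⟩ = θ 1 * ev n μ) ∧
      inertia P θ = inertia N (lin μ) := by
  obtain ⟨θ, h1, h2, h3⟩ := above (h.trans (commutator_le_left P P))
    (hN.le_centralizer_of_isNilpotent P hP.isNilpotent) (cop_of_syl hP hi) μ
  refine ⟨θ, h1, (dvd_charDegree_iff_of_isPGroup hP h1).2 fun e => hμ (ev_eq_one fun n => ?_), h2, h3⟩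
  have := h2 n
  rw [e, one_mul] at this
  rw [← this]
  refine apply_eq_one_of_mem_commutator h1.isCharacter e ?_
  have : (n : G) ∈ (_root_.commutator P).map P.subtype := by rw [map_subtype_commutator]; exact h n.2
  obtain ⟨c, h7, h8⟩ := this
  exact (show c = ⟨n, _⟩ from Subtype.ext h8) ▸ h7

theorem not_normal (h0 : ⁅P, P⁆ ≠ ⊥) (hpq : p ≠ q) (h1 : Rho G q) (a1 : ¬ Rho G (p * q)) (Q : Sylow q G) :
    ¬ (Q : Subgroup G).Normal := fun h => by
  obtain ⟨N, hN, h2⟩ := exists_isMinNormal_le inferInstance h0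
  have := hN.normal
  have := hN.isMulCommutative inferInstance
  have := nontrivial_lin hN.ne_bot
  obtain ⟨μ, hμ⟩ := exists_ne (1 : Lin N)
  obtain ⟨θ, h3, h4, -⟩ := above' hP hi hN h2 hμ
  obtain ⟨S, -, -, h5⟩ := key_cop (cop_of_syl hP hi) h3 hp.out hpq a1 (h4.mul_left _)
  obtain ⟨S, rfl⟩ := Sylow.mapSurjective_surjective (QuotientGroup.mk'_surjective P) q S
  have := Q.unique_of_normal h
  obtain rfl := Subsingleton.elim S Q
  rw [Sylow.coe_mapSurjective, ← map_commutator, Subgroup.map_eq_bot_iff, QuotientGroup.ker_mk'] at h5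
  exact h1.not_comm S h (eq_bot_mono (disjoint_of_coprime_natCard
    (IsPGroup.coprime_card_of_ne p q hpq _ _ hP S.2)).eq_bot (le_inf h5 (commutator_le_left _ _)))

omit hi [Group.IsSolvable G] in
theorem dvd_index_of [Subsingleton (Sylow q (G ⧸ P))] {Q : Sylow q G} {a : Lin P}
    (h : ¬ (Q : Subgroup G) ≤ inertia P (lin a)) : q ∣ (inertia P (lin a)).index := by
  by_contra h1
  obtain ⟨S, hS⟩ := FGS.exists_sylow_le_of_not_dvd_index h1
  exact h (le_of_bar_le (le_inertia P (irr_lin a).isClassFunction)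
    (Subsingleton.elim (bar P S) (bar P Q) ▸ map_mono hS))

omit hi hP [Group.IsSolvable G] [Finite G] [P.Normal] in
variable (P) in
/-- Linear characters trivial on `M`. -/
def ann (M : Subgroup G) : Subgroup (Lin P) where
  carrier := {a | ∀ y : P, (y : G) ∈ M → ev y a = 1}
  one_mem' y _ := map_one _
  mul_mem' h1 h2 y hy := by rw [map_mul, h1 y hy, h2 y hy, mul_one]
  inv_mem' h1 y hy := by rw [map_inv, h1 y hy, inv_one]

omit hi [Group.IsSolvable G] in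
theorem ann_fix (hpq : p ≠ q) {Q : Sylow q G} {a : Lin P} (ha : a ∈ ann P (P ⊓ 𝐂((Q : Subgroup G))))
    (h : (Q : Subgroup G) ≤ inertia P (lin a)) : a = 1 := ev_eq_one fun y => by
  obtain ⟨n, hn, c, hc, e⟩ := Coprime.exists_commutator_mul_centralizer le_normalizer_of_normal
    (IsPGroup.coprime_card_of_ne q p hpq.symm _ _ Q.2 hP) (Or.inr (pgroup_sol hP)) y.2
  have h1 := comm_le_ker h (x := ⟨n, commutator_le_left _ _ hn⟩) hn
  have h2 := ha ⟨c, hc.1⟩ hc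
  rw [show y = ⟨n, commutator_le_left _ _ hn⟩ * ⟨c, hc.1⟩ from Subtype.ext e]
  change ((a.hom _ : ℂˣ) : ℂ) = 1
  rw [map_mul, Units.val_mul]
  exact (congrArg₂ (· * ·) h1 h2).trans (mul_one _)

omit hi [Group.IsSolvable G] in
theorem exists_ann (hpq : p ≠ q) [Subsingleton (Sylow q (G ⧸ P))] {Q : Sylow q G}
    (hQ : ¬ (Q : Subgroup G).Normal) (hc : (Q : Subgroup G) ≤ 𝐂(⁅P, P⁆)) :
    ∃ x : P, (x : G) ∈ ⁅P, (Q : Subgroup G)⁆ ∧ (x : G) ∉ 𝐂((Q : Subgroup G)) ∧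
      ∃ a ∈ ann P (P ⊓ 𝐂((Q : Subgroup G))), ev x a ≠ 1 := by
  have := normal_sup_bar (N := P) Q
  obtain ⟨x, h1, h2⟩ : ∃ x ∈ ⁅P, (Q : Subgroup G)⁆, x ∉ 𝐂((Q : Subgroup G)) := by
    by_contra! h
    exact hQ (normal_of_sup Q (N := P) ((cent_symm (Coprime.le_centralizer_of_commutator_commutator_eq_bot
      le_normalizer_of_normal (IsPGroup.coprime_card_of_ne q p hpq.symm _ _ Q.2 hP)
      (commutator_eq_bot_iff_le_centralizer.2 h))).trans (centralizer_le_normalizer _)))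
  obtain ⟨a, h3, h4⟩ := exists_hom_sep (G := P) (M := (P ⊓ 𝐂((Q : Subgroup G))).subgroupOf P)
    (x := ⟨x, commutator_le_left _ _ h1⟩) (fun y hy => mem_subgroupOf.2 ⟨y.2, cent_symm hc (by
      rw [← map_subtype_commutator]; exact ⟨y, hy, rfl⟩)⟩) fun h => h2 (mem_subgroupOf.1 h).2
  exact ⟨⟨x, commutator_le_left _ _ h1⟩, h1, h2, a, fun y hy => congrArg Units.val (h3 y hy),
    fun e => h4 (Units.ext e)⟩

theorem card_lt (hD : IsMinNormal ⁅P, P⁆) (hpq : p ≠ q) (a1 : ¬ Rho G (p * q))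
    [Subsingleton (Sylow q (G ⧸ P))] {Q : Sylow q G}
    (hQ : ¬ (Q : Subgroup G).Normal) (hc : (Q : Subgroup G) ≤ 𝐂(⁅P, P⁆)) :
    Nat.card (Lin (⁅P, P⁆ : Subgroup G)) < Nat.card (ann P (P ⊓ 𝐂((Q : Subgroup G)))) := by
  obtain ⟨x, h1, h2, a, h3, h4⟩ := exists_ann hP hpq hQ hc
  have hc' := IsPGroup.coprime_card_of_ne q p hpq.symm _ _ Q.2 hP
  have hZ := hD.le_centralizer_of_isNilpotent P hP.isNilpotent
  have hD0 : ⁅P, P⁆ ≤ P ⊓ 𝐂((Q : Subgroup G)) := le_inf (commutator_le_left _ _) (cent_symm hc)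
  have h5 : (x : G) ∈ 𝐂(P ⊓ 𝐂((Q : Subgroup G))) := Coprime.le_centralizer_of_normal_of_fixed
    (Coprime.commutator_commutator_eq' le_normalizer_of_normal hc') inf_le_right
    ((commutator_le_left _ _).trans (Coprime.le_normalizer_of_commutator_le inf_le_left hD0)) h1
  let f : P →* (⁅P, P⁆ : Subgroup G) := MonoidHom.mk' (fun y => ⟨⁅(x : G), (y : G)⁆,
    commutator_mem_commutator x.2 y.2⟩) fun y z => Subtype.ext (by
      have := hZ (commutator_mem_commutator x.2 z.2) y y.2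
      change ⁅(x : G), (y : G) * z⁆ = ⁅(x : G), (y : G)⁆ * ⁅(x : G), (z : G)⁆
      rw [← mul_inv_eq_iff_eq_mul] at this
      rw [← this]; simp only [commutatorElement_def]; group)
  let F : Lin (⁅P, P⁆ : Subgroup G) →* ann P (P ⊓ 𝐂((Q : Subgroup G))) := MonoidHom.mk' (fun μ => ⟨μ.hom.comp f, fun y hy => by
    change ((μ.hom (f y) : ℂˣ) : ℂ) = 1
    rw [show f y = 1 from Subtype.ext (commutatorElement_eq_one_iff_mul_comm.2 (h5 y hy).symm), map_one,
      Units.val_one]⟩) fun _ _ => rfl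
  have hF : Function.Injective F := (injective_iff_map_eq_one F).2 fun μ hμ => by
    by_contra h6
    obtain ⟨θ, t1, t2, t3, -⟩ := above' hP hi hD le_rfl h6
    have t4 : θ x ≠ 0 := ne_zero_of_comm t1 fun y => by
      have e1 : ev (f y) μ = 1 := congrArg (fun b : ann P _ => ev y b.1) hμ
      have := t3 (f y)
      rwa [e1, mul_one] at this
    have t5 : ∀ ψ : P → ℂ, IsIrrCharacter P ψ → p ∣ charDegree ψ → (Q : Subgroup G) ≤ inertia P ψ :=
      fun ψ e1 e2 => by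
        obtain ⟨S, e3, -⟩ := key_cop (cop_of_syl hP hi) e1 hp.out hpq a1 (e2.mul_left _)
        exact le_of_bar_le (le_inertia P e1.isClassFunction) (Subsingleton.elim S (bar P Q) ▸ e3)
    obtain ⟨n, hn, e⟩ := Coprime.exists_mul_mem_centralizer' (A := Q) (N := ⁅P, P⁆) (k := x)
      le_normalizer_of_normal (coprime_mono hc' le_rfl (commutator_le_left _ _))
      (Or.inl (pgroup_sol Q.2)) fun g hg => by
        by_contra e1
        obtain ⟨b, e2, e3⟩ := exists_hom_sep (G := P) le_rfl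
          (x := ⟨g * x * g⁻¹, Normal.conj_mem inferInstance _ x.2 g⟩ * x⁻¹) fun h => e1 (by
            rw [← map_subtype_commutator]; exact ⟨_, h, rfl⟩)
        have e4 := (mem_inertia_iff P).1 (t5 _ (irr_tw (N := P) b t1) (deg_tw (N := P) b θ ▸ t2) hg) x
        have e5 := (mem_inertia_iff P).1 (t5 _ t1 t2 hg) x
        simp only [tw, e5] at e4
        exact e3 (by rw [map_mul, map_inv, mul_inv_eq_one]; exact Units.ext (mul_right_cancel₀ t4 e4))
    exact h2 ((Subgroup.mul_mem_cancel_left _ (hD0 hn).2).1 e)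
  refine not_le.1 fun h => h4 ?_
  obtain ⟨μ, e⟩ := (hF.bijective_of_nat_card_le h).2 ⟨a, h3⟩
  rw [← show (F μ).1 = a from congrArg Subtype.val e]
  change ((μ.hom (f x) : ℂˣ) : ℂ) = 1
  rw [show f x = 1 from Subtype.ext (commutatorElement_self _), map_one, Units.val_one]

theorem caseB1 (hD : IsMinNormal ⁅P, P⁆) (hpq : p ≠ q) (hpr : p ≠ r) (hqr : q ≠ r) (a1 : ¬ Rho G (p * q))
    [MulDistribMulAction (G ⧸ P) (Lin (⁅P, P⁆ : Subgroup G))]
    (hsm : ∀ (g : G) (a : Lin (⁅P, P⁆ : Subgroup G)), (g : G ⧸ P) • a = cj g⁻¹ a)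
    (nq : NS (G ⧸ P) (Lin (⁅P, P⁆ : Subgroup G)) q) (nr : NS (G ⧸ P) (Lin (⁅P, P⁆ : Subgroup G)) r) {Q : Sylow q G} {R : Sylow r G}
    (hQ : ¬ (Q : Subgroup G).Normal) (hR : ¬ (R : Subgroup G).Normal)
    (fq : fx (Lin (⁅P, P⁆ : Subgroup G)) (bar P Q : Subgroup (G ⧸ P)) = ⊤) : Rho G (q * r) := by
  by_contra a3
  have := hD.isMulCommutative inferInstance
  have := nontrivial_lin hD.ne_bot
  have cen : ∀ {s : ℕ} [Fact s.Prime] {S : Sylow s G}, fx (Lin (⁅P, P⁆ : Subgroup G)) (bar P S : Subgroup (G ⧸ P)) = ⊤ →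
      (S : Subgroup G) ≤ 𝐂(⁅P, P⁆) := fun e g hg => mem_centralizer_of_forall_inertia
        (fun a ha b hb => setLike_mul_comm ha hb) fun lam =>
          (le_inertia_of_fx hsm (a := lam)).1 (e.ge (mem_top _)) hg
  have := nq.subsingleton fq
  obtain ⟨_, hsm', hst⟩ := exists_act P P fun g hg a =>
    mem_inertia_lin.1 (le_inertia P (irr_lin a).isClassFunction hg)
  have hlt := card_lt hP hi hD hpq a1 hQ (cen fq)
  by_cases fr : fx (Lin (⁅P, P⁆ : Subgroup G)) (bar P R : Subgroup (G ⧸ P)) = ⊤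
  · have := nr.subsingleton fr
    obtain ⟨x, -, -, a, h1, h2⟩ := exists_ann hP hpq hQ (cen fq)
    obtain ⟨y, -, -, b, h3, h4⟩ := exists_ann hP hpr hR (cen fr)
    have h5 : a ∉ fx (Lin P) (bar P Q : Subgroup (G ⧸ P)) := fun h =>
      h2 (by rw [ann_fix hP hpq h1 ((le_inertia_of_fx hsm').1 h), map_one])
    have h6 : b ∉ fx (Lin P) (bar P R : Subgroup (G ⧸ P)) := fun h =>
      h4 (by rw [ann_fix hP hpr h3 ((le_inertia_of_fx hsm').1 h), map_one])
    obtain ⟨c, h7, h8⟩ : ∃ c, c ∉ fx (Lin P) (bar P Q : Subgroup (G ⧸ P)) ∧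
        c ∉ fx (Lin P) (bar P R : Subgroup (G ⧸ P)) := by
      by_contra! h
      have h9 : b ∈ fx (Lin P) (bar P Q : Subgroup (G ⧸ P)) := by_contra fun e => h6 (h b e)
      exact h6 ((mul_mem_cancel_left (h a h5)).1 (h _ fun e => h5 ((mul_mem_cancel_right h9).1 e)))
    obtain ⟨k, hk⟩ := index_inertia_dvd (irr_lin c)
    exact a3 ⟨_, hk, (((Nat.coprime_primes hq.out hr.out).2 hqr).mul_dvd_of_dvd_of_dvd
      (dvd_index_of hP fun e => h7 ((le_inertia_of_fx hsm').2 e))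
      (dvd_index_of hP fun e => h8 ((le_inertia_of_fx hsm').2 e))).mul_right k⟩
  obtain ⟨k, hk⟩ := IsPGroup.iff_card.1 hP
  have := normal_sup_bar (N := P) Q
  have hn : (P ⊓ 𝐂((Q : Subgroup G))).Normal := by
    have h5 : 𝐍((Q : Subgroup G)) ⊔ ((Q : Subgroup G) ⊔ P) = ⊤ :=
      Sylow.normalizer_sup_eq_top' (N := (Q : Subgroup G) ⊔ P) Q (le_sup_left (a := (Q : Subgroup G)))
    rw [← sup_assoc, sup_eq_left.2 (le_norm _)] at h5
    refine normalizer_eq_top_iff.1 (top_le_iff.1 (h5.ge.trans (sup_le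
      (norm_inf le_normalizer_of_normal (norm_cent le_rfl))
      (Coprime.le_normalizer_of_commutator_le inf_le_left
        (le_inf (commutator_le_left _ _) (cent_symm (cen fq)))))))
  obtain ⟨a, c, h1, h2, -, h3⟩ := count_pow (W := ann P (P ⊓ 𝐂((Q : Subgroup G)))) (k := k) hp.out
    ((card_subgroup_dvd_card _).trans (by rw [card_lin, ← hk]; exact Subgroup.relIndex_dvd_card _ _))
    (fun e => by rw [e, card_bot] at hlt; have := Nat.card_pos (α := Lin (⁅P, P⁆ : Subgroup G)); omega)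
    (fun g a ha y hy => by
      obtain ⟨g, rfl⟩ := QuotientGroup.mk_surjective g
      rw [hsm']
      exact ha ⟨g⁻¹ * y * g⁻¹⁻¹, Normal.conj_mem inferInstance _ y.2 _⟩ (hn.conj_mem _ hy _))
    (fun a ha h1 => by
      obtain ⟨S, e5, e6, -⟩ := key_cop (cop_of_syl hP hi) (irr_lin a) hq.out hqr a3
        ((dvd_index_of hP fun e => h1 (ann_fix hP hpq ha e)).mul_right _)
      exact ⟨S, hst a ▸ e5, fun T hT => e6 T (hst a ▸ hT)⟩) (bar P R)
  obtain ⟨b, e, h4, h5, h6, h7⟩ := count_pow (W := (⊤ : Subgroup (Lin (⁅P, P⁆ : Subgroup G)))) (k := k) hp.out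
    (by rw [card_top, card_lin, ← hk]
        exact (Subgroup.relIndex_dvd_card _ _).trans (card_dvd_of_le (commutator_le_left _ _)))
    top_ne_bot (fun _ _ _ => mem_top _) (fun a _ h => nr a h) (bar P R)
  have h8 : 1 < Nat.card (Sylow r (G ⧸ P)) := by
    by_contra h
    have h9 : Nat.card (Sylow r (G ⧸ P)) = 1 := by have := Nat.card_pos (α := Sylow r (G ⧸ P)); omega
    rw [top_inf_eq] at h6
    rw [card_top] at h5
    exact fr (eq_top_of_card_eq _ (by rw [h5, h6]; rw [h9] at h7; omega))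
  rw [card_top] at h5
  rw [h2, h5, eq_of_eqn hp.out.two_le h8 h1 h4 h3 h7] at hlt
  exact lt_irrefl _ hlt

theorem caseB (hD : IsMinNormal ⁅P, P⁆) (hpq : p ≠ q) (hpr : p ≠ r) (hqr : q ≠ r) (h1 : Rho G q)
    (h2 : Rho G r) (a1 : ¬ Rho G (p * q)) (a2 : ¬ Rho G (p * r)) : Rho G (q * r) := by
  have hZ := hD.le_centralizer_of_isNilpotent P hP.isNilpotent
  obtain ⟨_, hsm, hst⟩ := exists_act ⁅P, P⁆ P fun g hg a =>
    mem_inertia_lin.1 (centralizer_le_inertia _ _ (cent_symm hZ hg))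
  have ns : ∀ (s : ℕ) [Fact s.Prime], p ≠ s → ¬ Rho G (p * s) → NS (G ⧸ P) (Lin (⁅P, P⁆ : Subgroup G)) s :=
    fun s _ e1 e2 a ha => by
      obtain ⟨θ, t1, t2, -, t3⟩ := above' hP hi hD le_rfl ha
      obtain ⟨S, e5, e6, -⟩ := key_cop (cop_of_syl hP hi) t1 hp.out e1 e2 (t2.mul_left _)
      rw [t3, ← hst] at e5 e6
      exact ⟨S, e5, e6⟩
  obtain ⟨Q⟩ : Nonempty (Sylow q G) := inferInstance
  obtain ⟨R⟩ : Nonempty (Sylow r G) := inferInstance
  have hQ := not_normal hP hi hD.ne_bot hpq h1 a1 Q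
  have hR := not_normal hP hi hD.ne_bot hpr h2 a2 R
  by_cases fq : fx (Lin (⁅P, P⁆ : Subgroup G)) (bar P Q : Subgroup (G ⧸ P)) = ⊤
  · exact caseB1 hP hi hD hpq hpr hqr a1 hsm (ns q hpq a1) (ns r hpr a2) hQ hR fq
  by_cases fr : fx (Lin (⁅P, P⁆ : Subgroup G)) (bar P R : Subgroup (G ⧸ P)) = ⊤
  · exact mul_comm r q ▸ caseB1 hP hi hD hpr hpq hqr.symm a2 hsm (ns r hpr a2) (ns q hpq a1) hR hQ fr
  exact Rho.of_quot (N := P) (mod_main (t := p) (lin_pow (hD.isElementaryAbelian_of_isPGroup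
    (pgroup_of_le hP (commutator_le_left _ _))).2) hqr (ns q hpq a1) (ns r hpr a2) _ _ fq fr)

end B

theorem caseB' (hpq : p ≠ q) (hpr : p ≠ r) (hqr : q ≠ r) (h0 : Rho G p) (h1 : Rho G q) (h2 : Rho G r)
    (a1 : ¬ Rho G (p * q)) (a2 : ¬ Rho G (p * r)) (P : Sylow p G) (hn : (P : Subgroup G).Normal)
    (ih : ∀ (N : Subgroup G) [N.Normal], N ≠ ⊥ → ¬ Rho (G ⧸ N) p ∨ ¬ Rho (G ⧸ N) q ∨ ¬ Rho (G ⧸ N) r) :
    Rho G (q * r) := by
  have h3 := h0.not_comm P hn
  obtain ⟨N, hN, h4⟩ := exists_isMinNormal_le inferInstance h3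
  have := hN.normal
  have := hN.isMulCommutative inferInstance
  have := nontrivial_lin hN.ne_bot
  obtain ⟨μ, hμ⟩ := exists_ne (1 : Lin N)
  obtain ⟨θ, t1, t2, -, t3⟩ := above' P.2 P.not_dvd_index hN h4 hμ
  have := Fintype.ofFinite (P : Subgroup G)
  obtain ⟨χ, hχ⟩ := exists_ov t1
  have no : ∀ (s : ℕ) [Fact s.Prime], p ≠ s → Rho G s → ¬ Rho G (p * s) → Rho (G ⧸ N) s := fun s hs e1 e2 e3 => by
    by_contra e4
    obtain ⟨S⟩ : Nonempty (Sylow s G) := inferInstance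
    have e5 := ((a0 hN e2 e4 S).2 (not_normal P.2 P.not_dvd_index h3 e1 e2 e3 S)).2 μ hμ
    exact e3 ⟨_, charDegree_mem_cd hχ.irr, ((Nat.coprime_primes hp.out hs.out).2 e1).mul_dvd_of_dvd_of_dvd
      (t2.trans hχ.deg_dvd) ((t3 ▸ e5).trans hχ.index_dvd)⟩
  rcases ih N hN.ne_bot with h | h | h
  · exact caseB P.2 P.not_dvd_index (((a0 hN h0 h P).1 hn).symm ▸ hN) hpq hpr hqr h1 h2 a1 a2
  · exact (h (no q hpq h1 a1)).elim
  · exact (h (no r hpr h2 a2)).elim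

theorem palfy (hpq : p ≠ q) (hpr : p ≠ r) (hqr : q ≠ r) (G : Type u) [Group G] [Finite G] [Group.IsSolvable G]
    (h0 : Rho G p) (h1 : Rho G q) (h2 : Rho G r) : Rho G (p * q) ∨ Rho G (q * r) ∨ Rho G (p * r) := by
  induction hn : Nat.card G using Nat.strong_induction_on generalizing G with | _ n ih => ?_
  subst hn
  by_contra! h
  obtain ⟨a1, a3, a2⟩ := h
  have ih' : ∀ (N : Subgroup G) [N.Normal], N ≠ ⊥ → ¬ Rho (G ⧸ N) p ∨ ¬ Rho (G ⧸ N) q ∨ ¬ Rho (G ⧸ N) r :=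
    fun N _ h => by
      by_contra! e
      rcases ih _ (card_quotient_lt h) (G ⧸ N) e.1 e.2.1 e.2.2 rfl with h | h | h
      exacts [a1 h.of_quot, a3 h.of_quot, a2 h.of_quot]
  by_cases nP : ∃ P : Sylow p G, (P : Subgroup G).Normal
  · obtain ⟨P, hP⟩ := nP
    exact a3 (caseB' hpq hpr hqr h0 h1 h2 a1 a2 P hP ih')
  by_cases nQ : ∃ P : Sylow q G, (P : Subgroup G).Normal
  · obtain ⟨P, hP⟩ := nQ
    exact a2 (caseB' hpq.symm hqr hpr h1 h0 h2 (mul_comm p q ▸ a1) a3 P hP fun N _ h => by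
      have := ih' N h; tauto)
  by_cases nR : ∃ P : Sylow r G, (P : Subgroup G).Normal
  · obtain ⟨P, hP⟩ := nR
    exact a1 (caseB' hpr.symm hqr.symm hpq h2 h0 h1 (mul_comm p r ▸ a2) (mul_comm q r ▸ a3) P hP
      fun N _ h => by have := ih' N h; tauto)
  push Not at nP nQ nR
  have : Nontrivial G := by
    by_contra h
    have := not_nontrivial_iff_subsingleton.1 h
    obtain ⟨P⟩ : Nonempty (Sylow p G) := inferInstance
    exact nP P (by rw [Subsingleton.elim (P : Subgroup G) ⊥]; infer_instance)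
  obtain ⟨N, hN⟩ := exists_isMinNormal (G := G)
  have := hN.normal
  rcases ih' N hN.ne_bot with h | h | h
  · exact a3 (caseA hpq hpr hqr hN h0 h nP nQ nR a1 a2)
  · exact a2 (caseA hpq.symm hqr hpr hN h1 h nQ nP nR (mul_comm p q ▸ a1) a3)
  · exact a1 (caseA hpr.symm hqr.symm hpq hN h2 h nR nP nQ (mul_comm p r ▸ a2) (mul_comm q r ▸ a3))

end Cfsg.Lib.Pal
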