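import Cfsg.Agent.Lib.Pal.Act
import Cfsg.Agent.Lib.CharDeg.TwoDeg

/-! Modules in which every nonzero vector is fixed by a unique Sylow subgroup. -/

set_option autoImplicit false

namespace Cfsg.Lib.Pal

open Subgroup MulAction Cfsg.Lib.Char Cfsg.Lib.BG Cfsg.Lib.Core Cfsg.Lib.CharDeg Cfsg.Lib.Clifford
open scoped commutatorElement

theorem relIndex_dvd_index' {H : Type*} [Group H] [Finite H] (N O : Subgroup H) [O.Normal] :
    N.relIndex O ∣ N.index := by
  have h1 := relIndex_mul_index (inf_le_right : N ⊓ O ≤ O)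
  have h2 := relIndex_mul_index (inf_le_left : N ⊓ O ≤ N)
  have h3 := relIndex_mul_index (le_sup_right : O ≤ N ⊔ O)
  rw [inf_relIndex_right] at h1
  rw [inf_relIndex_left] at h2
  rw [relIndex_sup_right] at h3
  have h4 : O.relIndex N ≠ 0 := index_ne_zero_of_finite
  refine ⟨(N ⊔ O).index, Nat.eq_of_mul_eq_mul_left (Nat.pos_of_ne_zero h4) ?_⟩
  rw [h2, ← h1, ← h3]; ring

theorem exists_hom_apply_ne {A : Type*} [Group A] [Finite A] [IsMulCommutative A] {g : A} (hg : g ≠ 1) :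
    ∃ lam : A →* ℂˣ, lam g ≠ 1 := by
  obtain ⟨χ, hχ, h1⟩ := exists_irr_apply_ne_of_ne_one hg
  obtain ⟨lam, rfl⟩ := hχ.exists_hom_of_comm
  exact ⟨lam, fun e => h1 (by simp [e])⟩

theorem zs_dvd {t z c : ℕ} : z ∣ t ^ c - 1 ∧ 0 < t ^ c ↔ (t : ZMod z) ^ c = 1 ∧ 0 < t ^ c :=
  and_congr_left fun h => by
    rw [← Nat.modEq_iff_dvd' h, ← ZMod.natCast_eq_natCast_iff, eq_comm]; simp

theorem zs_le {t z d : ℕ} (hz : z.Prime) (h : orderOf (t : ZMod z) = d) (hd : 0 < d) : d + 1 ≤ z := by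
  have := Fact.mk hz
  have h1 : (t : ZMod z) ≠ 0 := fun e => by
    have := pow_orderOf_eq_one (t : ZMod z)
    rw [h, e, zero_pow hd.ne'] at this
    exact zero_ne_one this
  have := Nat.le_of_dvd (by have := hz.two_le; omega) (h ▸ ZMod.orderOf_dvd_card_sub_one h1)
  have := hz.two_le
  omega

theorem zs_dvd_n {t z d c n j : ℕ} (ht : 0 < t) (hz : z.Prime) (h : orderOf (t : ZMod z) = d) (hc : 0 < c)
    (hcd : c < d) (e : t ^ d + n = n * t ^ c + 1) (hj : z ^ j ∣ t ^ d - 1) : z ^ j ∣ n := by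
  have h1 : t ^ d - 1 = n * (t ^ c - 1) := by
    rw [Nat.mul_sub]; have := pow_pos ht d; omega
  refine (Nat.Coprime.pow_left j ((Nat.Prime.coprime_iff_not_dvd hz).2 fun h2 => ?_)).dvd_of_dvd_mul_right
    (h1 ▸ hj)
  have := Nat.le_of_dvd hc (h ▸ orderOf_dvd_of_pow_eq_one (zs_dvd.1 ⟨h2, pow_pos ht c⟩).1)
  omega

theorem num26 {q n c u i : ℕ} (hq : q.Prime) (hu : u.Prime) (hc : 0 < c) (hc' : c < 6) (hi : 0 < i)
    (e : 2 ^ 6 + n = n * 2 ^ c + 1) (h1 : n ≡ 1 [MOD q]) (h2 : u ^ i ∣ n) (h3 : q ∣ u ^ i - 1) : q = 2 := by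
  have hn : n = 63 ∨ n = 21 ∨ n = 9 := by interval_cases c <;> omega
  have h4 : u ^ i ∣ 63 := h2.trans (by rcases hn with rfl | rfl | rfl <;> norm_num)
  have h5 : u ∣ 3 ^ 2 * 7 := (dvd_pow_self u hi.ne').trans h4
  have h6 : u ^ i = 3 ∨ u ^ i = 9 ∨ u ^ i = 7 := by
    rcases (Nat.Prime.dvd_mul hu).1 h5 with h | h
    · obtain rfl := (Nat.prime_dvd_prime_iff_eq hu Nat.prime_three).1 (hu.dvd_of_dvd_pow h)
      have : i < 3 := by
        by_contra h; exact absurd ((pow_dvd_pow 3 (not_lt.1 h)).trans h4) (by norm_num)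
      interval_cases i <;> simp
    · obtain rfl := (Nat.prime_dvd_prime_iff_eq hu (by norm_num)).1 h
      have : i < 2 := by
        by_contra h; exact absurd ((pow_dvd_pow 7 (not_lt.1 h)).trans h4) (by norm_num)
      interval_cases i; simp
  have h7 : q ∣ 2 ^ 3 * 3 := h3.trans (by rcases h6 with h | h | h <;> rw [h] <;> norm_num)
  rcases (Nat.Prime.dvd_mul hq).1 h7 with h | h
  · exact (Nat.prime_dvd_prime_iff_eq hq Nat.prime_two).1 (hq.dvd_of_dvd_pow h)
  · obtain rfl := (Nat.prime_dvd_prime_iff_eq hq Nat.prime_three).1 h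
    rcases hn with rfl | rfl | rfl <;> exact absurd h1 (by decide)

theorem num34 {q n c u i : ℕ} (hq : q.Prime) (hu : u.Prime) (hu5 : u ≠ 5) (hc : 0 < c) (hc' : c < 4)
    (hi : 0 < i) (e : 3 ^ 4 + n = n * 3 ^ c + 1) (h1 : n ≡ 1 [MOD q]) (h2 : u ^ i ∣ n)
    (h3 : q ∣ u ^ i - 1) : q = 3 := by
  have hn : n = 40 ∨ n = 10 := by interval_cases c <;> omega
  have h4 : u ^ i ∣ 40 := h2.trans (by rcases hn with rfl | rfl <;> norm_num)
  have h5 : u ∣ 2 ^ 3 * 5 := (dvd_pow_self u hi.ne').trans h4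
  rcases (Nat.Prime.dvd_mul hu).1 h5 with h | h
  · obtain rfl := (Nat.prime_dvd_prime_iff_eq hu Nat.prime_two).1 (hu.dvd_of_dvd_pow h)
    have : i < 4 := by
      by_contra h; exact absurd ((pow_dvd_pow 2 (not_lt.1 h)).trans h4) (by norm_num)
    have h7 : q ∣ 3 * 7 := h3.trans (by interval_cases i <;> norm_num)
    rcases (Nat.Prime.dvd_mul hq).1 h7 with h | h
    · exact (Nat.prime_dvd_prime_iff_eq hq Nat.prime_three).1 h
    · obtain rfl := (Nat.prime_dvd_prime_iff_eq hq (by norm_num)).1 h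
      rcases hn with rfl | rfl <;> exact absurd h1 (by decide)
  · exact (hu5 ((Nat.prime_dvd_prime_iff_eq hu (by norm_num)).1 h)).elim

variable {H V : Type*} [Group H] [CommGroup V] [MulDistribMulAction H V]

variable (H V) in
/-- Every nonidentity vector is fixed by a unique Sylow `s`-subgroup. -/
def NS (s : ℕ) : Prop := ∀ v : V, v ≠ 1 → ∃! S : Sylow s H, (S : Subgroup H) ≤ stabilizer H v

variable [Finite H] [Finite V]

omit [Finite H] in
theorem card_modEq {s : ℕ} [Fact s.Prime] {A : Subgroup H} (hA : IsPGroup s A) (W : Subgroup V)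
    (hW : ∀ a ∈ A, ∀ w ∈ W, a • w ∈ W) : Nat.card W ≡ Nat.card ↥(W ⊓ fx V A) [MOD s] := by
  let _ : MulAction A W :=
    { smul := fun g x => ⟨(g : H) • (x : V), hW g g.2 x x.2⟩
      one_smul := fun x => Subtype.ext (one_smul H (x : V))
      mul_smul := fun a b x => Subtype.ext (mul_smul (a : H) b (x : V)) }
  have e : fixedPoints A W ≃ ↥(W ⊓ fx V A) :=
    ⟨fun x => ⟨x.1.1, x.1.2, fun a ha => congrArg Subtype.val (x.2 ⟨a, ha⟩)⟩,
      fun x => ⟨⟨x.1, x.2.1⟩, fun a => Subtype.ext (x.2.2 a a.2)⟩, fun _ => rfl, fun _ => rfl⟩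
  exact Nat.card_congr e ▸ hA.card_modEq_card_fixedPoints W

variable [FaithfulSMul H V] [Nontrivial V] {t d : ℕ} [ht : Fact t.Prime] (hV : ∀ v : V, v ^ t = 1)
  (hd : Nat.card V = t ^ d)

omit [Finite H] [Finite V] [Nontrivial V] in
theorem eq_bot_of_fx {B : Subgroup H} (hB : fx V B = ⊤) : B = ⊥ := (eq_bot_iff_forall _).2 fun b hb => by
  by_contra h
  obtain ⟨w, hw⟩ := exists_moved (V := V) h
  exact hw (hB.ge (mem_top w) b hb)

omit [Finite H] [Finite V] [Nontrivial V] in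
theorem NS.core {s : ℕ} (h : NS H V s) : pCore s H = ⊥ := eq_bot_of_fx (V := V) (eq_top_iff.2 fun v _ a ha => by
  by_cases hv : v = 1
  · rw [hv, smul_one]
  · obtain ⟨S, hS, -⟩ := h v hv
    exact hS (pCore_le_sylow S ha))

include hd

omit [FaithfulSMul H V] [Nontrivial V] in
theorem NS.sub {s : ℕ} [Fact s.Prime] (h : NS H V s) (S : Sylow s H) {W : Subgroup V} (h0 : W ≠ ⊥)
    (hW : ∀ (g : H), ∀ v ∈ W, g • v ∈ W) : ∃ a c, 0 < c ∧ Nat.card W = t ^ a ∧
      Nat.card ↥(W ⊓ fx V (S : Subgroup H)) = t ^ c ∧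
      t ^ a + Nat.card (Sylow s H) = Nat.card (Sylow s H) * t ^ c + 1 := by
  have h1 := count_sub W hW (fun v _ hv => h v hv) S
  obtain ⟨a, -, e1⟩ := (Nat.dvd_prime_pow ht.out).1 (hd ▸ card_subgroup_dvd_card W)
  obtain ⟨c, -, e2⟩ := (Nat.dvd_prime_pow ht.out).1 (hd ▸ card_subgroup_dvd_card (W ⊓ fx V (S : Subgroup H)))
  refine ⟨a, c, Nat.pos_of_ne_zero ?_, e1, e2, by rwa [e1, e2] at h1⟩
  rintro rfl
  rw [e2, pow_zero, mul_one] at h1
  exact h0 (card_eq_one.1 (by omega))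

theorem NS.data {s : ℕ} [Fact s.Prime] (h : NS H V s) (hs : s ∣ Nat.card H) (S : Sylow s H) :
    1 < Nat.card (Sylow s H) ∧ ∃ c, 0 < c ∧ c < d ∧ Nat.card (fx V (S : Subgroup H)) = t ^ c ∧
      t ^ d + Nat.card (Sylow s H) = Nat.card (Sylow s H) * t ^ c + 1 := by
  obtain ⟨a, c, h1, h2, h3, h4⟩ := h.sub hd S top_ne_bot fun _ _ _ => mem_top _
  rw [top_inf_eq] at h3
  obtain rfl : a = d := Nat.pow_right_injective ht.out.two_le (by simp only; rw [← h2, ← hd, card_top])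
  have h5 : 1 < Nat.card (Sylow s H) := by
    by_contra h6
    have h7 : Nat.card (Sylow s H) = 1 := by have := Nat.card_pos (α := Sylow s H); omega
    exact S.ne_bot_of_dvd_card hs (eq_bot_of_fx (eq_top_of_card_eq _ (by rw [h3, hd]; rw [h7] at h4; omega)))
  exact ⟨h5, c, h1, lt_of_eqn ht.out.two_le h5 h1 h4, h3, h4⟩

theorem NS.core_t {s : ℕ} [Fact s.Prime] (h : NS H V s) (hs : s ∣ Nat.card H) : pCore t H = ⊥ := by
  obtain ⟨S⟩ : Nonempty (Sylow s H) := inferInstance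
  obtain ⟨h1, c, h2, h3, -, h4⟩ := h.data hd hs S
  have h0 : fx V (pCore t H) ≠ ⊥ := fun e => by
    have := card_modEq (pCore_isPGroup t H) (⊤ : Subgroup V) fun _ _ _ _ => mem_top _
    rw [e, inf_bot_eq, card_bot, card_top, hd] at this
    exact ht.out.one_lt.ne' (Nat.dvd_one.1 ((this.dvd_iff dvd_rfl).1 (dvd_pow_self t (by omega))))
  obtain ⟨a, c', h5, h6, -, h7⟩ := h.sub hd S h0 fun g v hv => smul_mem_fx (by simp [normalizer_eq_top]) hv
  exact eq_bot_of_fx (eq_top_of_card_eq _ (by rw [h6, hd, eq_of_eqn ht.out.two_le h1 h5 h2 h7 h4]))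

omit hd [Nontrivial V] [FaithfulSMul H V] in
theorem exists_core [Group.IsSolvable H] {s : ℕ} [hs : Fact s.Prime] (h : pCore s H = ⊥) {A : Subgroup H}
    (hA : IsPGroup s A) (h0 : A ≠ ⊥) : ∃ u, u.Prime ∧ u ≠ s ∧ ¬ A ≤ 𝐂(pCore u H) := by
  by_contra! h1
  refine h0 (eq_bot_mono h (le_pCore_of_le_fittingSubgroup
    (le_trans (cent_symm ?_) centralizer_fittingSubgroup_le) hA))
  rw [fittingSubgroup_eq_iSup_pCore]
  refine iSup_le fun u => ?_
  by_cases e : u.1 = s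
  · rw [e, h]; exact bot_le
  · exact cent_symm (h1 u u.2 e)

omit hd [Nontrivial V] in
theorem NS.prime [Group.IsSolvable H] {s : ℕ} [hs : Fact s.Prime] (h : NS H V s) (hd : s ∣ Nat.card H)
    (S : Sylow s H) : ∃ u, u.Prime ∧ u ≠ s ∧ ¬ (S : Subgroup H) ≤ 𝐂(pCore u H) ∧
      ∃ i, 0 < i ∧ u ^ i ∣ Nat.card (Sylow s H) ∧ s ∣ u ^ i - 1 := by
  obtain ⟨u, hu, h1, h2⟩ := exists_core h.core S.2 (S.ne_bot_of_dvd_card hd)
  have := Fact.mk hu
  refine ⟨u, hu, h1, h2, ?_⟩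
  have h3 := (conj_count (inf_le_left : pCore u H ⊓ 𝐂((S : Subgroup H)) ≤ _) le_normalizer_of_normal
    (Coprime.le_normalizer_inf_centralizer _ _)).1 hs.out S.2 le_rfl
  obtain ⟨k, hk⟩ := IsPGroup.iff_card.1 (pCore_isPGroup u H)
  obtain ⟨i, -, hi⟩ := (Nat.dvd_prime_pow hu).1
    (hk ▸ Subgroup.relIndex_dvd_card (pCore u H ⊓ 𝐂((S : Subgroup H))) (pCore u H))
  refine ⟨i, Nat.pos_of_ne_zero ?_, ?_, hi ▸ ((Nat.Prime.dvd_mul hs.out).1 h3).resolve_left fun e =>
    h1 (pgroup_eq_of_dvd (pgroup_of_le (pCore_isPGroup u H) inf_le_left) hs.out e).symm⟩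
  · rintro rfl
    exact h2 (cent_symm ((relIndex_eq_one.1 hi).trans inf_le_right))
  · have h4 : pCore u H ⊓ 𝐂((S : Subgroup H)) = pCore u H ⊓ 𝐍((S : Subgroup H)) := by
      refine le_antisymm (inf_le_inf_left _ (centralizer_le_normalizer _)) (le_inf inf_le_left ?_)
      refine commutator_eq_bot_iff_le_centralizer.1 (eq_bot_mono (disjoint_of_coprime_natCard
        (IsPGroup.coprime_card_of_ne u s h1 _ _ (pCore_isPGroup u H) S.2)).eq_bot (le_inf ?_ ?_))
      · exact (commutator_mono inf_le_left le_rfl).trans (commutator_le_left _ _)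
      · exact comm_le_right inf_le_right
    rw [← hi, h4, inf_relIndex_left, FGS.card_sylow_eq_index S]
    exact relIndex_dvd_index' _ _

omit [Nontrivial V] in
theorem zs_fx {z : ℕ} (hz : z.Prime) (h : orderOf (t : ZMod z) = d) {A : Subgroup H} (hA : IsPGroup z A)
    (h0 : A ≠ ⊥) : fx V A = ⊥ ∧ ∀ W : Subgroup V, (∀ a ∈ A, ∀ w ∈ W, a • w ∈ W) → W = ⊥ ∨ W = ⊤ := by
  have := Fact.mk hz
  have key : ∀ W : Subgroup V, Nat.card W ≡ 1 [MOD z] → W = ⊥ ∨ W = ⊤ := fun W hW => by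
    obtain ⟨a, ha, e1⟩ := (Nat.dvd_prime_pow ht.out).1 (hd ▸ card_subgroup_dvd_card W)
    rw [e1, ← ZMod.natCast_eq_natCast_iff, Nat.cast_pow, Nat.cast_one] at hW
    have h1 := h ▸ orderOf_dvd_of_pow_eq_one hW
    rcases Nat.eq_zero_or_pos a with rfl | h2
    · exact Or.inl (card_eq_one.1 e1)
    · exact Or.inr (eq_top_of_card_eq _ (by rw [e1, hd, le_antisymm ha (Nat.le_of_dvd h2 h1)]))
  have h1 : fx V A = ⊥ := (key _ (by
    have := card_modEq hA (⊤ : Subgroup V) fun _ _ _ _ => mem_top _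
    rw [top_inf_eq, card_top, hd] at this
    refine this.symm.trans ?_
    rw [← ZMod.natCast_eq_natCast_iff, Nat.cast_pow, Nat.cast_one, ← h, pow_orderOf_eq_one])).resolve_right
      fun e => h0 (eq_bot_of_fx e)
  refine ⟨h1, fun W hW => key W ?_⟩
  have := card_modEq hA W hW
  rwa [h1, inf_bot_eq, card_bot] at this

theorem zs_cyclic {z : ℕ} (hz : z.Prime) (h : orderOf (t : ZMod z) = d) {A : Subgroup H} (hA : IsPGroup z A)
    (hab : IsMulCommutative A) : IsCyclic A := by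
  have := Fact.mk hz
  have hd0 : 0 < d := Nat.pos_of_ne_zero (by
    rintro rfl; exact (Finite.one_lt_card (α := V)).ne' (by simpa using hd))
  refine isCyclic_of_fpf (V := V) hab ?_ fun a ha v hv => or_iff_not_imp_left.2 fun h1 => ?_
  · obtain ⟨k, hk⟩ := IsPGroup.iff_card.1 hA
    rw [hk, hd]
    refine ((Nat.coprime_primes hz ht.out).2 ?_).pow _ _
    rintro rfl
    have := pow_orderOf_eq_one ((z : ℕ) : ZMod z)
    rw [h, ZMod.natCast_self, zero_pow hd0.ne'] at this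
    exact zero_ne_one this
  · have := (zs_fx hd hz h (pgroup_of_le hA (zpowers_le.2 ha)) (by simpa using h1)).1
    exact mem_bot.1 (this ▸ fun b hb => (zpowers_le.2 (mem_stabilizer_iff.2 hv) hb :))

theorem NS.dvd_index {s : ℕ} [Fact s.Prime] (hs : NS H V s) (hsd : s ∣ Nat.card H) {z : ℕ} (hz : z.Prime)
    (h : orderOf (t : ZMod z) = d) {N : Subgroup H} [N.Normal] (hN : IsElementaryAbelian z N) {y : N}
    {lam : N →* ℂˣ} (hy : lam y ≠ 1) : s ∣ (inertia N fun a => (lam a : ℂ)).index := by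
  have := Fact.mk hz
  by_contra h1
  obtain ⟨S, hS⟩ := FGS.exists_sylow_le_of_not_dvd_index h1
  have hp := isPGroup_of_isElementaryAbelian hN
  have := zs_cyclic hd hz h hp hN.1
  have h2 : (y : H) ∈ 𝐂((S : Subgroup H)) := fun g hg => by
    have h3 := mem_inertia_hom.1 (hS hg) y
    by_contra h4
    have h5 : y ∈ zpowers ((⟨g * y * g⁻¹, Normal.conj_mem inferInstance _ y.2 g⟩ : N) * y⁻¹) :=
      mem_zpowers_of_cyclic hz hp (Subtype.ext (hN.2 y y.2)) fun e => h4 (by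
        have := congrArg Subtype.val (mul_inv_eq_one.1 e)
        exact mul_inv_eq_iff_eq_mul.1 this)
    obtain ⟨k, hk⟩ := h5
    refine hy ?_
    rw [← hk]
    simp only [map_zpow, map_mul, map_inv, h3, mul_inv_cancel, one_zpow]
  obtain ⟨-, c, c1, c2, c3, -⟩ := hs.data hd hsd S
  have hy1 : (y : H) ≠ 1 := fun e => hy (by rw [show y = 1 from Subtype.ext e, map_one])
  rcases (zs_fx hd hz h (pgroup_of_le hp (zpowers_le.2 y.2)) (by simpa using hy1)).2 (fx V (S : Subgroup H))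
    fun a ha w hw => smul_mem_fx (centralizer_le_normalizer _ (zpowers_le.2 h2 ha)) hw with e | e
  · rw [e, card_bot] at c3
    exact (Nat.one_lt_pow c1.ne' ht.out.one_lt).ne c3
  · rw [e, card_top, hd] at c3
    exact c2.ne' (Nat.pow_right_injective ht.out.two_le c3)

include hV

theorem zs_fermat [Group.IsSolvable H] (h0 : pCore t H = ⊥) {z : ℕ} (hz : z.Prime)
    (h : orderOf (t : ZMod z) = d) (hd2 : 2 ≤ d) (h1 : pCore z H = ⊥) (hzd : z ∣ Nat.card H) :
    z = d + 1 ∧ t ≠ 2 ∧ (∃ k, d = 2 ^ k) ∧ ¬ z ^ 2 ∣ Nat.card H := by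
  have := Fact.mk hz
  have hle := zs_le hz h (by omega)
  have key : ∀ Z : Subgroup H, IsPGroup z Z → Z ≠ ⊥ → IsMulCommutative Z →
      ∃ u e, u.Prime ∧ u ≠ t ∧ 1 < e ∧ e ≤ d ∧ (∃ i, e ^ 2 = u ^ i) ∧ Nat.card Z ∣ e ^ 2 - 1 := fun Z z1 z2 z3 => by
    obtain ⟨y, hy, h2⟩ := exists_mem_orderOf_eq_prime hz (pgroup_dvd_card z1 z2)
    have h3 := pgroup_of_le z1 (zpowers_le.2 hy)
    have h4 : zpowers y ≠ ⊥ := by
      rw [Ne, zpowers_eq_bot]; rintro rfl; exact hz.one_lt.ne (by simpa using h2)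
    obtain ⟨u, hu, h5, h6⟩ := exists_core h1 h3 h4
    have := Fact.mk hu
    have h7 : u ≠ t := by rintro rfl; exact h6 (by rw [h0]; exact cent_symm bot_le)
    have h8 := zs_fx hd hz h h3 h4
    obtain ⟨e, he⟩ := zlem hV hd hz z1 (zs_cyclic hd hz h z1 z3) hy h2 h5 h7 (pCore_isPGroup u H)
      le_normalizer_of_normal (by simpa using h6) (fun W hW => h8.2 W fun a ha => by
        obtain ⟨k, rfl⟩ := (mem_powers_iff_mem_zpowers.2 ha :)
        clear ha
        induction k with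
        | zero => simp
        | succ k ih =>
          intro w hw
          simp only [pow_succ, mul_smul]
          exact ih _ (hW w hw)) h8.1
    exact ⟨u, e, hu, h7, he⟩
  obtain ⟨Z, hZ⟩ := Sylow.exists_subgroup_card_pow_prime z (n := 1) (by simpa using hzd)
  have : Fact (Nat.card Z).Prime := ⟨by simpa [hZ]⟩
  obtain ⟨u, e, hu, e0, e1, e2, ⟨i, e3⟩, e4⟩ := key Z (IsPGroup.of_card hZ)
    (fun e => hz.one_lt.ne' (by simpa [e] using hZ.symm)) (isCyclic_of_prime_card rfl).isMulCommutative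
  have e5 : e ^ 2 - 1 = (e + 1) * (e - 1) := by simpa using Nat.sq_sub_sq e 1
  rw [hZ, pow_one, e5] at e4
  have e6 : z = e + 1 := by
    rcases (Nat.Prime.dvd_mul hz).1 e4 with h | h <;> have := Nat.le_of_dvd (by omega) h <;> omega
  obtain rfl : e = d := by omega
  have e7 : 2 ∣ e := by have := hz.eq_two_or_odd; omega
  obtain rfl : 2 = u := (Nat.prime_dvd_prime_iff_eq Nat.prime_two hu).1
    (Nat.prime_two.dvd_of_dvd_pow (e3 ▸ e7.trans (dvd_pow_self e two_ne_zero)))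
  obtain ⟨k, -, hk⟩ := (Nat.dvd_prime_pow hu).1 (e3 ▸ dvd_pow_self e two_ne_zero)
  refine ⟨e6, e0.symm, ⟨k, hk⟩, fun h2 => ?_⟩
  obtain ⟨Y, hY⟩ := Sylow.exists_subgroup_card_pow_prime z h2
  obtain ⟨u, f, -, -, f1, f2, -, f4⟩ := key Y (IsPGroup.of_card hY)
    (fun e => (Nat.one_lt_pow two_ne_zero hz.one_lt).ne' (by simpa [e] using hY.symm))
    (IsPGroup.isMulCommutative_of_card_eq_prime_sq hY)
  have f5 : 1 < f ^ 2 := Nat.one_lt_pow two_ne_zero f1
  have := Nat.le_of_dvd (by omega) (hY ▸ f4)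
  have : f ^ 2 < z ^ 2 := Nat.pow_lt_pow_left (by omega) two_ne_zero
  omega

theorem NS.two [Group.IsSolvable H] {s : ℕ} [hs : Fact s.Prime] (h : NS H V s) (hsd : s ∣ Nat.card H)
    (hd2 : d = 2) (hz : ∀ z, z.Prime → orderOf (t : ZMod z) = d → pCore z H = ⊥) : s = 3 := by
  obtain ⟨S⟩ : Nonempty (Sylow s H) := inferInstance
  obtain ⟨h1, c, c1, c2, -, c3⟩ := h.data hd hsd S
  obtain ⟨u, hu, h2, h3, i, h4, h5, -⟩ := h.prime hsd S
  have h6 : pCore u H ≠ ⊥ := fun e => h3 (by rw [e]; exact cent_symm bot_le)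
  subst hd2
  obtain rfl : c = 1 := by omega
  have h7 : Nat.card (Sylow s H) = t + 1 := by
    obtain ⟨m, rfl⟩ : ∃ m, t = m + 1 := ⟨t - 1, by have := ht.out.pos; omega⟩
    have : m ≠ 0 := by have := ht.out.two_le; omega
    refine Nat.eq_of_mul_eq_mul_left (Nat.pos_of_ne_zero this) ?_
    nlinarith
  obtain rfl : u = 2 := by
    by_contra h8
    have := Fact.mk hu
    have h9 : (t : ZMod u) + 1 = 0 := by
      have := (ZMod.natCast_eq_zero_iff _ _).2 (h7 ▸ (dvd_pow_self u h4.ne').trans h5)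
      simpa using this
    refine h6 (hz u hu (orderOf_eq_prime (by rw [eq_neg_of_add_eq_zero_left h9]; simp) fun e => h8 ?_))
    rw [e] at h9
    exact (Nat.prime_dvd_prime_iff_eq hu Nat.prime_two).1 ((ZMod.natCast_eq_zero_iff 2 u).1 (by
      rw [← h9]; norm_num))
  exact two_lem hV hd rfl h2.symm (by rintro rfl; exact h6 (h.core_t hd hsd)) S.2 (pCore_isPGroup 2 H)
    le_normalizer_of_normal h3

omit hd in
theorem mod_faithful [Group.IsSolvable H] {q r : ℕ} [hq : Fact q.Prime] [hr : Fact r.Prime] (hqr : q ≠ r)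
    (nq : NS H V q) (nr : NS H V r) (dq : q ∣ Nat.card H) (dr : r ∣ Nat.card H) :
    ∃ n ∈ cd H, q * r ∣ n := by
  by_contra! hno
  obtain ⟨d, hd⟩ := IsPGroup.iff_card.1 (show IsPGroup t V from fun v => ⟨1, by simpa using hV v⟩)
  have hz : ∀ z, z.Prime → orderOf (t : ZMod z) = d → pCore z H = ⊥ := fun z hz h => by
    by_contra h1
    have := Fact.mk hz
    obtain ⟨N, hN, h2⟩ := exists_isMinNormal_le inferInstance h1
    have := hN.normal
    have h3 := hN.isElementaryAbelian_of_isPGroup (pgroup_of_le (pCore_isPGroup z H) h2)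
    have := h3.1
    have := (nontrivial_iff_ne_bot N).2 hN.ne_bot
    obtain ⟨y, hy⟩ := exists_ne (1 : N)
    obtain ⟨lam, hl⟩ := exists_hom_apply_ne hy
    obtain ⟨k, hk⟩ := index_inertia_dvd (isIrrCharacter_hom lam)
    exact hno _ hk ((((Nat.coprime_primes hq.out hr.out).2 hqr).mul_dvd_of_dvd_of_dvd
      (nq.dvd_index hd dq hz h h3 hl) (nr.dvd_index hd dr hz h h3 hl)).mul_right k)
  by_cases hd2 : d = 2
  · exact hqr ((nq.two hV hd dq hd2 hz).trans (nr.two hV hd dr hd2 hz).symm)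
  obtain ⟨Q⟩ : Nonempty (Sylow q H) := inferInstance
  obtain ⟨R⟩ : Nonempty (Sylow r H) := inferInstance
  obtain ⟨-, c, c1, c2, -, c3⟩ := nq.data hd dq Q
  obtain ⟨-, c', c1', c2', -, c3'⟩ := nr.data hd dr R
  obtain ⟨u, hu, -, h3, i, h4, h5, h6⟩ := nq.prime dq Q
  obtain ⟨u', hu', -, h3', i', h4', h5', h6'⟩ := nr.prime dr R
  by_cases h26 : t = 2 ∧ d = 6
  · obtain ⟨rfl, rfl⟩ := h26
    exact hqr ((num26 hq.out hu c1 c2 h4 c3 (card_sylow_modEq_one q H) h5 h6).trans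
      (num26 hr.out hu' c1' c2' h4' c3' (card_sylow_modEq_one r H) h5' h6').symm)
  have hdv : ∀ z j, z.Prime → orderOf (t : ZMod z) = d → z ^ j ∣ t ^ d - 1 → z ^ j ∣ Nat.card H :=
    fun z j hz h hj => ((zs_dvd_n ht.out.pos hz h c1 c2 c3 hj).trans Q.card_dvd_index).trans (index_dvd_card _)
  have hf : ∀ z, z.Prime → orderOf (t : ZMod z) = d →
      z = d + 1 ∧ t ≠ 2 ∧ (∃ k, d = 2 ^ k) ∧ ¬ z ^ 2 ∣ Nat.card H := fun z h1 h2 =>
    zs_fermat hV hd (nq.core_t hd dq) h1 h2 (by omega) (hz z h1 h2) (by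
      simpa using hdv z 1 h1 h2 (by
        simpa using (zs_dvd.2 ⟨h2 ▸ pow_orderOf_eq_one _, pow_pos ht.out.pos d⟩).1))
  obtain ⟨z, z1, z2⟩ := GLC.zsigmondy ht.out.one_lt (by omega) h26 fun h => hd2 h.1
  obtain ⟨z3, t2, ⟨k, rfl⟩, z4⟩ := hf z z1 z2
  have hk : 2 ≤ k := by
    by_contra h
    have : k < 2 := by omega
    interval_cases k <;> omega
  obtain ⟨j, rfl⟩ : ∃ j, k = j + 2 := ⟨k - 2, by omega⟩
  have hodd : Odd (t ^ 2 ^ j) := (ht.out.odd_of_ne_two t2).pow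
  obtain ⟨a, ha⟩ := hodd
  have hm : t ^ 2 ^ (j + 1) + 1 = 2 * (2 * (a * a + a) + 1) := by rw [pow_succ, pow_mul, ha]; ring
  have hm' : t ^ 2 ^ (j + 2) - 1 = (t ^ 2 ^ (j + 1) + 1) * (t ^ 2 ^ (j + 1) - 1) := by
    rw [pow_succ 2 (j + 1), pow_mul]; simpa using Nat.sq_sub_sq (t ^ 2 ^ (j + 1)) 1
  have h7 := Nat.eq_prime_pow_of_unique_prime_dvd (n := 2 * (a * a + a) + 1) (p := z) (by omega)
    fun {w} w1 w2 => by
      have := Fact.mk w1
      have w3 : (t : ZMod w) ^ 2 ^ (j + 1) + 1 = 0 := by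
        have := (ZMod.natCast_eq_zero_iff _ _).2 (hm ▸ w2.mul_left 2)
        simpa using this
      refine (hf w w1 (orderOf_eq_prime_pow (fun e => ?_) ?_)).1.trans z3.symm
      · rw [e] at w3
        have := (Nat.prime_dvd_prime_iff_eq w1 Nat.prime_two).1 ((ZMod.natCast_eq_zero_iff 2 w).1 (by
          rw [← w3]; norm_num))
        subst this
        omega
      · rw [pow_succ 2, pow_mul, eq_neg_of_add_eq_zero_left w3]; simp
  generalize (2 * (a * a + a) + 1).primeFactorsList.length = l at h7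
  have h8 : l ≤ 1 := by
    by_contra h
    exact z4 (hdv z 2 z1 z2 ((pow_dvd_pow z (by omega)).trans
      (h7 ▸ hm' ▸ (hm ▸ dvd_mul_left _ 2).mul_right _)))
  have h9 : z ^ l ≤ z := by simpa using Nat.pow_le_pow_right z1.pos h8
  have t3 : 3 ≤ t := by have := ht.out.two_le; omega
  obtain rfl : j = 0 := by
    by_contra h
    have h10 := pow_bound (k := j + 2) (by omega)
    have : 3 ^ 2 ^ (j + 1) ≤ t ^ 2 ^ (j + 1) := Nat.pow_le_pow_left t3 _
    rw [show j + 2 - 1 = j + 1 by omega] at h10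
    omega
  obtain rfl : t = 3 := by
    norm_num at hm z3
    by_contra h
    have : 4 ≤ t := by omega
    nlinarith
  norm_num at z3
  subst z3
  have h10 : ∀ u, ∀ S : Subgroup H, ¬ S ≤ 𝐂(pCore u H) → u ≠ 5 := by
    rintro _ S h rfl
    exact h (by rw [hz 5 z1 z2]; exact cent_symm bot_le)
  exact hqr ((num34 hq.out hu (h10 u _ h3) c1 c2 h4 c3 (card_sylow_modEq_one q H) h5 h6).trans
      (num34 hr.out hu' (h10 u' _ h3') c1' c2' h4' c3' (card_sylow_modEq_one r H) h5' h6').symm)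

omit [FaithfulSMul H V] [Nontrivial V] hd in
/-- The version for actions that need not be faithful. -/
theorem mod_main [Group.IsSolvable H] {q r : ℕ} [hq : Fact q.Prime] [hr : Fact r.Prime] (hqr : q ≠ r)
    (nq : NS H V q) (nr : NS H V r) (Q : Sylow q H) (R : Sylow r H) (dq : fx V (Q : Subgroup H) ≠ ⊤)
    (dr : fx V (R : Subgroup H) ≠ ⊤) : ∃ n ∈ cd H, q * r ∣ n := by
  let φ := MulDistribMulAction.toMulAut H V
  have hs := φ.rangeRestrict_surjective
  have : Finite φ.range := Finite.of_surjective _ hs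
  have : Group.IsSolvable φ.range := Group.isSolvable_of_surjective hs
  have : FaithfulSMul φ.range V := ⟨fun h => Subtype.ext (MulEquiv.ext h)⟩
  have : Nontrivial V := by
    by_contra h
    have := not_nontrivial_iff_subsingleton.1 h
    exact dq (Subsingleton.elim _ _)
  have key : ∀ (s : ℕ) [Fact s.Prime], NS H V s → ∀ S : Sylow s H, fx V (S : Subgroup H) ≠ ⊤ →
      NS φ.range V s ∧ s ∣ Nat.card φ.range := fun s _ h S h1 => by
    refine ⟨fun v hv => ?_, ?_⟩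
    · obtain ⟨T, h2, h3⟩ := h v hv
      refine ⟨T.mapSurjective hs, ?_, fun U hU => ?_⟩
      · rintro _ ⟨g, hg, rfl⟩
        exact h2 hg
      · obtain ⟨U, rfl⟩ := Sylow.mapSurjective_surjective hs s U
        rw [h3 U fun g hg => hU ⟨g, hg, rfl⟩]
    · refine (pgroup_dvd_card (S.mapSurjective hs).2 fun e => h1 (eq_top_iff.2 fun v _ g hg => ?_)).trans
        (card_subgroup_dvd_card _)
      have : φ.rangeRestrict g = 1 := mem_bot.1 (e.le ⟨g, hg, rfl⟩)
      exact congrArg (fun x : φ.range => x • v) this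
  obtain ⟨n, hn, h⟩ := mod_faithful hV hqr (key q nq Q dq).1 (key r nr R dr).1 (key q nq Q dq).2 (key r nr R dr).2
  exact ⟨n, cd_subset_of_surjective _ hs hn, h⟩

end Cfsg.Lib.Pal
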