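import Cfsg.Agent.Lib.GLC.Zsig
import Cfsg.Agent.Lib.FGS.Sylow

/-! Counting lemmas for actions in which every point is fixed by a unique Sylow subgroup. -/

set_option autoImplicit false

namespace Cfsg.Lib.Pal

open Subgroup MulAction

theorem lt_of_eqn {t n a a' : ℕ} (ht : 2 ≤ t) (hn : 1 < n) (ha : 0 < a')
    (h : t ^ a + n = n * t ^ a' + 1) : a' < a := by
  by_contra hl
  have h1 : t ^ a ≤ t ^ a' := Nat.pow_le_pow_right (by omega) (by omega)
  have h2 : 2 ≤ t ^ a' := le_trans ht (Nat.le_self_pow (by omega) t)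
  nlinarith

theorem eq_of_eqn' {t n a a' b b' : ℕ} (ht : 2 ≤ t) (hn : 1 < n) (ha : 0 < a') (hab : a' < b')
    (h1 : t ^ a + n = n * t ^ a' + 1) (h2 : t ^ b + n = n * t ^ b' + 1) : False := by
  have l1 := lt_of_eqn ht hn ha h1
  have l2 := lt_of_eqn ht hn (by omega) h2
  have d1 : t ^ (a' + 1) ∣ t ^ a := pow_dvd_pow _ l1
  have d2 : t ^ (a' + 1) ∣ t ^ b := pow_dvd_pow _ (by omega)
  have d3 : t ^ (a' + 1) ∣ n * t ^ b' := (pow_dvd_pow _ hab).mul_left _
  obtain ⟨m, rfl⟩ : ∃ m, n = m + 1 := ⟨n - 1, by omega⟩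
  have d4 : t ^ (a' + 1) ∣ m := by
    have : t ^ b + m = (m + 1) * t ^ b' := by omega
    exact (Nat.dvd_add_right d2).1 (this ▸ d3)
  have d5 : t ^ (a' + 1) ∣ (m + 1) * t ^ a' := by
    have : t ^ a + m = (m + 1) * t ^ a' := by omega
    exact this ▸ dvd_add d1 d4
  rw [pow_succ'] at d5
  have d6 : t ∣ m + 1 := Nat.dvd_of_mul_dvd_mul_right (by positivity) d5
  have d7 : t ∣ m := (dvd_pow_self t (by omega)).trans d4
  have := Nat.le_of_dvd one_pos ((Nat.dvd_add_right d7).1 d6)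
  omega

theorem eq_of_eqn {t n a a' b b' : ℕ} (ht : 2 ≤ t) (hn : 1 < n) (ha : 0 < a') (hb : 0 < b')
    (h1 : t ^ a + n = n * t ^ a' + 1) (h2 : t ^ b + n = n * t ^ b' + 1) : a = b := by
  rcases lt_trichotomy a' b' with h | h | h
  · exact (eq_of_eqn' ht hn ha h h1 h2).elim
  · subst h
    exact Nat.pow_right_injective ht (by simp only; omega)
  · exact (eq_of_eqn' ht hn hb h h2 h1).elim

theorem pow_bound {k : ℕ} (hk : 3 ≤ k) : 2 * 2 ^ k + 1 < 3 ^ 2 ^ (k - 1) := by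
  have key : ∀ m, 4 ≤ m → 4 * m + 1 < 3 ^ m := fun m hm => by
    induction m, hm using Nat.le_induction with
    | base => norm_num
    | succ m _ ih => rw [pow_succ]; omega
  obtain ⟨j, rfl⟩ : ∃ j, k = j + 1 := ⟨k - 1, by omega⟩
  have : 2 ^ 2 ≤ 2 ^ j := Nat.pow_le_pow_right (by norm_num) (by omega)
  have := key (2 ^ j) (by omega)
  rw [Nat.add_sub_cancel, pow_succ]; omega

variable {H V : Type*} [Group H] [Finite H] {s : ℕ} [hs : Fact s.Prime]

theorem le_stab_smul [MulAction H V] {S : Sylow s H} {v : V} (g : H)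
    (h : (S : Subgroup H) ≤ stabilizer H v) : ((g • S : Sylow s H) : Subgroup H) ≤ stabilizer H (g • v) := by
  intro x hx
  rw [Sylow.coe_subgroup_smul, mem_pointwise_smul_iff_inv_smul_mem] at hx
  have := h hx
  rw [mem_stabilizer_iff] at this ⊢
  simp only [MulAut.smul_def, MulAut.conj_inv_apply, mul_smul] at this
  exact inv_smul_eq_iff.1 this

theorem count [MulAction H V] [Finite V] (X : V → Prop) (hX : ∀ (g : H) v, X v → X (g • v))
    (h : ∀ v, X v → ∃! S : Sylow s H, (S : Subgroup H) ≤ stabilizer H v) (S0 : Sylow s H) :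
    Nat.card {v // X v} =
      Nat.card (Sylow s H) * Nat.card {v // X v ∧ (S0 : Subgroup H) ≤ stabilizer H v} := by
  classical
  have := Fintype.ofFinite (Sylow s H)
  have e : (Σ S : Sylow s H, {v // X v ∧ (S : Subgroup H) ≤ stabilizer H v}) ≃ {v // X v} :=
    Equiv.ofBijective (fun x => ⟨x.2.1, x.2.2.1⟩) ⟨by
      rintro ⟨S, v, h1, h2⟩ ⟨T, w, h3, h4⟩ e
      obtain rfl : v = w := congrArg Subtype.val e
      obtain rfl : S = T := (h v h1).unique h2 h4
      rfl, fun v => by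
      obtain ⟨S, hS, -⟩ := h v.1 v.2
      exact ⟨⟨S, v.1, v.2, hS⟩, rfl⟩⟩
  rw [← Nat.card_congr e, Nat.card_sigma, Finset.sum_congr rfl
    (g := fun _ => Nat.card {v // X v ∧ (S0 : Subgroup H) ≤ stabilizer H v})]
  · simp
  · intro S _
    obtain ⟨g, rfl⟩ := exists_smul_eq H S0 S
    refine Nat.card_congr ⟨fun v => ⟨g⁻¹ • v.1, hX _ _ v.2.1, ?_⟩,
      fun v => ⟨g • v.1, hX _ _ v.2.1, le_stab_smul g v.2.2⟩, fun v => by simp, fun v => by simp⟩
    have := le_stab_smul g⁻¹ v.2.2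
    rwa [inv_smul_smul] at this

variable [Group V] [MulDistribMulAction H V]

variable (V) in
/-- Fixed points of a subgroup. -/
def fx (A : Subgroup H) : Subgroup V where
  carrier := {v | ∀ a ∈ A, a • v = v}
  one_mem' a _ := smul_one a
  mul_mem' h1 h2 a ha := by rw [smul_mul', h1 a ha, h2 a ha]
  inv_mem' h1 a ha := by rw [smul_inv', h1 a ha]

omit [Finite H] in
theorem mem_fx {A : Subgroup H} {v : V} : v ∈ fx V A ↔ ∀ a ∈ A, a • v = v := Iff.rfl

omit [Finite H] in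
theorem smul_mem_fx {A : Subgroup H} {g : H} (hg : g ∈ normalizer (A : Set H)) {v : V}
    (hv : v ∈ fx V A) : g • v ∈ fx V A := fun a ha => by
  have := hv _ ((mem_normalizer_iff''.1 hg a).1 ha)
  rw [mul_smul, mul_smul, inv_smul_eq_iff] at this
  exact this

theorem card_ne_one {V : Type*} [Group V] [Finite V] (W : Subgroup V) :
    Nat.card {v // v ∈ W ∧ v ≠ 1} + 1 = Nat.card W := by
  have e : {v // v ∈ W ∧ v ≠ 1} ≃ {w : W // w ≠ 1} :=
    ⟨fun v => ⟨⟨v.1, v.2.1⟩, fun e => v.2.2 (congrArg Subtype.val e)⟩,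
      fun w => ⟨w.1.1, w.1.2, fun e => w.2 (Subtype.ext e)⟩, fun _ => rfl, fun _ => rfl⟩
  rw [Nat.card_congr e]
  classical
  have := Fintype.ofFinite W
  have : 0 < Fintype.card W := Fintype.card_pos
  simp only [Nat.card_eq_fintype_card, ne_eq, Fintype.card_subtype_compl, Fintype.card_unique]
  omega

theorem count_sub [Finite V] (W : Subgroup V) (hW : ∀ (g : H), ∀ v ∈ W, g • v ∈ W)
    (h : ∀ v ∈ W, v ≠ 1 → ∃! S : Sylow s H, (S : Subgroup H) ≤ stabilizer H v) (S0 : Sylow s H) :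
    Nat.card W + Nat.card (Sylow s H) =
      Nat.card (Sylow s H) * Nat.card ↥(W ⊓ fx V (S0 : Subgroup H)) + 1 := by
  have := count (fun v => v ∈ W ∧ v ≠ 1) (fun g v hv => ⟨hW g v hv.1, fun e => hv.2 (by
    rw [← inv_smul_smul g v, e, smul_one])⟩) (fun v hv => h v hv.1 hv.2) S0
  have e : {v // (v ∈ W ∧ v ≠ 1) ∧ (S0 : Subgroup H) ≤ stabilizer H v} ≃
      {v // v ∈ W ⊓ fx V (S0 : Subgroup H) ∧ v ≠ 1} :=
    Equiv.subtypeEquivRight fun v => ⟨fun h => ⟨⟨h.1.1, h.2⟩, h.1.2⟩, fun h => ⟨⟨h.1.1, h.2⟩, h.1.2⟩⟩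
  rw [Nat.card_congr e] at this
  rw [← card_ne_one W, ← card_ne_one (W ⊓ fx V (S0 : Subgroup H)), this]
  ring

omit hs in
/-- Conjugation action on `S \ D`. -/
theorem conj_count {Z S D : Subgroup H} (hD : D ≤ S) (h1 : Z ≤ normalizer (S : Set H))
    (h2 : Z ≤ normalizer (D : Set H)) :
    (∀ {y : ℕ}, y.Prime → IsPGroup y Z → S ⊓ centralizer (Z : Set H) ≤ D →
      y ∣ Nat.card D * (D.relIndex S - 1)) ∧
    ((∀ y ∈ Z, y ≠ 1 → S ⊓ centralizer {y} ≤ D) → Nat.card Z ∣ Nat.card D * (D.relIndex S - 1)) := by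
  let X := {x : H // x ∈ S ∧ x ∉ D}
  let _ : MulAction Z X :=
    { smul := fun g x => ⟨g * x * g⁻¹, (mem_normalizer_iff.1 (h1 g.2) _).1 x.2.1,
        fun h => x.2.2 ((mem_normalizer_iff.1 (h2 g.2) _).2 h)⟩
      one_smul := fun x => Subtype.ext (by change ((1 : Z) : H) * x * ((1 : Z) : H)⁻¹ = x; simp)
      mul_smul := fun a b x => Subtype.ext (by
        change ((a * b : Z) : H) * x * ((a * b : Z) : H)⁻¹ = a * (b * x * (b : H)⁻¹) * (a : H)⁻¹
        simp [mul_assoc]) }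
  have hsm : ∀ (g : Z) (x : X), g • x = x → (g : H) * x = x * g := fun g x e => by
    have : (g : H) * x * (g : H)⁻¹ = x := congrArg Subtype.val e
    rw [← mul_inv_eq_iff_eq_mul]; exact this
  have hc : Nat.card X = Nat.card D * (D.relIndex S - 1) := by
    have e : X ≃ {w : S // w ∉ D.subgroupOf S} :=
      ⟨fun v => ⟨⟨v.1, v.2.1⟩, v.2.2⟩, fun w => ⟨w.1.1, w.1.2, w.2⟩, fun _ => rfl, fun _ => rfl⟩
    classical
    have := Fintype.ofFinite S
    rw [Nat.card_congr e, Nat.card_eq_fintype_card, Fintype.card_subtype_compl,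
      ← Nat.card_eq_fintype_card, ← Nat.card_eq_fintype_card,
      ← card_mul_index (D.subgroupOf S), Nat.mul_sub, mul_one,
      ← Nat.card_congr (subgroupOfEquivOfLe hD).toEquiv]
    rfl
  rw [← hc]
  refine ⟨fun {y} hy hZ h => ?_, fun h => ?_⟩
  · have := Fact.mk hy
    have h3 := hZ.card_modEq_card_fixedPoints X
    have : IsEmpty (fixedPoints Z X) := ⟨fun x => x.1.2.2 (h ⟨x.1.2.1, fun g hg =>
      hsm ⟨g, hg⟩ x.1 (x.2 _)⟩)⟩
    rw [Nat.card_of_isEmpty (α := fixedPoints Z X)] at h3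
    exact (Nat.modEq_zero_iff_dvd).1 h3
  · have e := selfEquivOrbitsQuotientProd (G := Z) (X := X) fun x => (eq_bot_iff_forall _).2 fun g hg => by
      by_contra hne
      exact x.2.2 (h g g.2 (fun e => hne (Subtype.ext e)) ⟨x.2.1, mem_centralizer_singleton_iff.2
        (hsm g x hg).symm⟩)
    rw [Nat.card_congr e, Nat.card_prod]
    exact dvd_mul_left _ _

end Cfsg.Lib.Pal
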